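import Cfsg.Agent.H86.ConjSubgroups
import Cfsg.Agent.H86.Basic
import Cfsg.Agent.H22.PResidual
import Cfsg.Agent.H22.AbelianSylow
import Cfsg.Agent.H22.SmallSylow
import Cfsg.Agent.H23.PPrimeQuotient

/-!
Groups with a cyclic Sylow `p`-subgroup all of whose `p'`-subgroups are abelian: basic facts.
-/

namespace Cfsg.Agent.H86.PPrime

open Subgroup

/-- Every subgroup of order prime to `p` is abelian. -/
def AbPPrime (p : ℕ) (G : Type*) [Group G] : Prop :=
  ∀ H : Subgroup G, ¬ p ∣ Nat.card H → ∀ a ∈ H, ∀ b ∈ H, a * b = b * a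

/-- The conclusion. -/
def Concl (p : ℕ) (G : Type*) [Group G] : Prop :=
  Cfsg.HasNormalPComplement p G ∨ ∀ P : Sylow p G, (P : Subgroup G).Normal

variable {G : Type*} [Group G] [Finite G] {p : ℕ} [hp : Fact p.Prime]

theorem AbPPrime.subgroup (h : AbPPrime p G) (L : Subgroup G) : AbPPrime p L := by
  intro H hH a ha b hb
  have := h (H.map L.subtype) (by rwa [card_map_of_injective L.subtype_injective]) _ (mem_map_of_mem _ ha)
    _ (mem_map_of_mem _ hb)
  exact Subtype.ext this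

theorem cyclic_subgroup_sylow (hc : ∀ P : Sylow p G, IsCyclic P) (L : Subgroup G) (Q : Sylow p L) :
    IsCyclic Q := by
  obtain ⟨P, hP⟩ := (Q.2.map L.subtype).exists_le_sylow
  have : IsCyclic (P : Subgroup G) := hc P
  have := isCyclic_of_le hP
  exact isCyclic_of_surjective ((Q : Subgroup L).equivMapOfInjective _ L.subtype_injective).symm.toMonoidHom
    (MulEquiv.surjective _)

/-- Orders prime to `p` and `p`-groups meet trivially. -/
theorem eq_one_of_mem_of_coprime {U : Subgroup G} (hU : IsPGroup p U) {x : G} (hx : x ∈ U)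
    (ho : ¬ p ∣ orderOf x) : x = 1 := by
  obtain ⟨k, hk⟩ := hU ⟨x, hx⟩
  have h : orderOf x ∣ p ^ k := orderOf_dvd_of_pow_eq_one (congrArg Subtype.val hk)
  exact orderOf_eq_one_iff.1 (Nat.eq_one_of_dvd_coprimes
    ((hp.out.coprime_iff_not_dvd.2 ho).pow_left k) h dvd_rfl)

theorem not_dvd_card_iff {K : Subgroup G} : ¬ p ∣ Nat.card K ↔ ∀ x ∈ K, ¬ p ∣ orderOf x := by
  refine ⟨fun h x hx h' => h (h'.trans (K.orderOf_dvd_natCard hx)), fun h hd => ?_⟩
  obtain ⟨x, hx⟩ := exists_prime_orderOf_dvd_card' p hd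
  exact h x x.2 (by rw [Subgroup.orderOf_coe, hx])

/-- An element of order prime to `p` fixing a nontrivial element of a cyclic `p`-group it
normalizes centralizes it. -/
theorem cyclic_fix {U : Subgroup G} (hU : IsPGroup p U) [IsCyclic U] {x : G} (hx : ¬ p ∣ orderOf x)
    (hn : x ∈ normalizer (U : Set G)) {w : G} (hw : w ∈ U) (hw1 : w ≠ 1) (hxw : x * w = w * x) :
    ∀ v ∈ U, x * v = v * x := by
  have hcomm : ∀ a ∈ U, ∀ b ∈ U, Commute a b := fun a ha b hb =>
    congrArg Subtype.val ((IsCyclic.isMulCommutative (α := U)).is_comm.comm ⟨a, ha⟩ ⟨b, hb⟩)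
  refine H23.centralize_of_omega hU hcomm (hp.out.coprime_iff_not_dvd.2 hx).symm
    (fun v hv => (mem_normalizer_iff.1 hn v).1 hv) fun v hv hvp => ?_
  rcases eq_or_ne v 1 with rfl | hv1
  · exact Commute.one_right x
  obtain ⟨z, hz⟩ : ∃ z : zpowers w, orderOf z = p := by
    refine exists_prime_orderOf_dvd_card' p ?_
    rcases ((hU.to_le (zpowers_le.2 hw)).card_eq_or_dvd) with h | h
    · exact absurd ((Nat.card_zpowers w).symm.trans h |> orderOf_eq_one_iff.1) hw1
    · exact h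
  have hzU : (z : G) ∈ U := zpowers_le.2 hw z.2
  have hvo : orderOf v = p := orderOf_eq_prime hvp hv1
  have heq : (zpowers (⟨v, hv⟩ : U)) = zpowers (⟨z, hzU⟩ : U) := eq_of_card_eq_of_cyclic (by
    rw [Nat.card_zpowers, Nat.card_zpowers, Subgroup.orderOf_mk, Subgroup.orderOf_mk, hvo, Subgroup.orderOf_coe, hz])
  obtain ⟨i, hi⟩ := (heq ▸ mem_zpowers (⟨v, hv⟩ : U) : (⟨v, hv⟩ : U) ∈ zpowers ⟨z, hzU⟩)
  have hv' : (z : G) ^ i = v := congrArg Subtype.val hi
  obtain ⟨j, hj⟩ := z.2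
  rw [← hv', ← hj]
  exact ((show Commute x w from hxw).zpow_right j).zpow_right i

/-- A nontrivial `p'`-automorphism of a cyclic `p`-group has all elements as commutators. -/
theorem exists_commutator_eq {U : Subgroup G} (hU : IsPGroup p U) [IsCyclic U] {x : G} (hx : ¬ p ∣ orderOf x)
    (hn : x ∈ normalizer (U : Set G)) (hne : ¬ ∀ v ∈ U, x * v = v * x) {u : G} (hu : u ∈ U) :
    ∃ v ∈ U, x * v * x⁻¹ * v⁻¹ = u := by
  let f : U → U := fun v => ⟨x * v * x⁻¹ * (v : G)⁻¹, mul_mem ((mem_normalizer_iff.1 hn v).1 v.2) (inv_mem v.2)⟩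
  have hinj : Function.Injective f := by
    intro a b hab
    have h : x * (a : G) * x⁻¹ * (a : G)⁻¹ = x * (b : G) * x⁻¹ * (b : G)⁻¹ := congrArg Subtype.val hab
    by_contra hne'
    apply hne
    have hcomm : ∀ c ∈ U, ∀ d ∈ U, Commute c d := fun c hc d hd =>
      congrArg Subtype.val ((IsCyclic.isMulCommutative (α := U)).is_comm.comm ⟨c, hc⟩ ⟨d, hd⟩)
    refine cyclic_fix hU hx hn (w := (b : G)⁻¹ * a) (mul_mem (inv_mem b.2) a.2) (fun e => hne' ?_) ?_
    · exact (Subtype.ext (inv_mul_eq_one.1 e)).symm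
    · rw [← mul_inv_eq_iff_eq_mul]
      have h' : x * (a : G) * x⁻¹ = x * (b : G) * x⁻¹ * ((b : G)⁻¹ * a) := by
        rw [← mul_assoc, ← h]; group
      calc x * ((b : G)⁻¹ * a) * x⁻¹ = (x * (b : G) * x⁻¹)⁻¹ * (x * (a : G) * x⁻¹) := by group
        _ = (b : G)⁻¹ * a := by rw [h', inv_mul_cancel_left]
  obtain ⟨v, hv⟩ := Finite.surjective_of_injective hinj ⟨u, hu⟩
  exact ⟨v, v.2, congrArg Subtype.val hv⟩

/-- An element of order `2` acting nontrivially on a cyclic `p`-group, `p` odd, inverts it. -/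
theorem inverts_of_involution (hp2 : p ≠ 2) {U : Subgroup G} (hU : IsPGroup p U) [IsCyclic U] {x : G}
    (hx : orderOf x = 2) (hn : x ∈ normalizer (U : Set G)) (hne : ¬ ∀ v ∈ U, x * v = v * x) {v : G} (hv : v ∈ U) :
    x * v * x⁻¹ = v⁻¹ := by
  have hxp : ¬ p ∣ orderOf x := by rw [hx, Nat.prime_dvd_prime_iff_eq hp.out Nat.prime_two]; exact hp2
  have hv' : x * v * x⁻¹ ∈ U := (mem_normalizer_iff.1 hn v).1 hv
  have hcomm : x * v * x⁻¹ * v = v * (x * v * x⁻¹) :=
    congrArg Subtype.val ((IsCyclic.isMulCommutative (α := U)).is_comm.comm ⟨_, hv'⟩ ⟨v, hv⟩)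
  have hxi : x⁻¹ = x := inv_eq_of_mul_eq_one_right (by rw [← sq, ← hx, pow_orderOf_eq_one])
  by_contra h
  apply hne
  refine cyclic_fix hU hxp hn (w := x * v * x⁻¹ * v) (mul_mem hv' hv) (fun e => h (eq_inv_of_mul_eq_one_left e)) ?_
  have hxx : x * x = 1 := by rw [← sq, ← hx, pow_orderOf_eq_one]
  rw [hxi] at hcomm ⊢
  calc x * (x * v * x * v) = v * (x * v) := by simp only [mul_assoc, ← mul_assoc x x, hxx, one_mul]
    _ = (x * v * x * v) * x := by rw [hcomm]; simp only [mul_assoc, hxx, mul_one]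

/-- In a group with a normal `p`-complement `K`, the elements of order prime to `p` lie in `K`. -/
theorem exists_complement_of_npc {L : Subgroup G} (h : Cfsg.HasNormalPComplement p L) :
    ∃ K : Subgroup G, K ≤ L ∧ L ≤ normalizer (K : Set G) ∧ ¬ p ∣ Nat.card K ∧
      ∀ x ∈ L, ¬ p ∣ orderOf x → x ∈ K := by
  have := H22.pResidual_normal (p := p) (G := L)
  refine ⟨(Cfsg.pResidual p L).map L.subtype, map_subtype_le _, ?_, ?_, ?_⟩
  · intro g hg
    have h1 := le_normalizer_map L.subtype (H := Cfsg.pResidual p L)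
      (mem_map_of_mem L.subtype (show (⟨g, hg⟩ : L) ∈ normalizer ((Cfsg.pResidual p L : Subgroup L) : Set L) by
        rw [normalizer_eq_top_iff.2 inferInstance]; exact mem_top _))
    exact h1
  · rw [card_map_of_injective L.subtype_injective]
    exact H22.hasNormalPComplement_iff.1 h
  · intro x hx hxp
    exact ⟨⟨x, hx⟩, (H22.mem_pResidual_iff_coprime h _).2 (by
      rw [Subgroup.orderOf_mk]; exact (hp.out.coprime_iff_not_dvd.2 hxp).symm), rfl⟩

theorem npc_of_normal (N : Subgroup G) [N.Normal] (h : ¬ p ∣ Nat.card N) {k : ℕ} (hk : N.index = p ^ k) :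
    Cfsg.HasNormalPComplement p G :=
  H22.hasNormalPComplement_of_normal N h (IsPGroup.of_card (n := k) (by rw [← Subgroup.index_eq_card, hk]))

/-- The decomposition into `p`-part and `p'`-part. -/
theorem split (g : G) : ∃ a b : G, g = a * b ∧ Commute a b ∧ (∃ k : ℕ, a ^ p ^ k = 1) ∧ ¬ p ∣ orderOf b ∧
    a ∈ zpowers g ∧ b ∈ zpowers g := by
  obtain ⟨a, b, ha, hb, hab, ⟨k, hk⟩, hbp⟩ := exists_pPart_mul_pPrimePart g (isOfFinOrder_of_finite g) hp.out
  refine ⟨a, b, hab.symm, ?_, ⟨k, by rw [← hk]; exact pow_orderOf_eq_one a⟩,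
    (hp.out.coprime_iff_not_dvd).1 hbp.symm, ha, hb⟩
  obtain ⟨i, rfl⟩ := ha
  obtain ⟨j, rfl⟩ := hb
  exact ((Commute.refl g).zpow_right j).zpow_left i

end Cfsg.Agent.H86.PPrime
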