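import Cfsg.Agent.H86.PPrime.Simple
import Cfsg.Agent.H86.IsoSubgroups

/-!
The case of a `p'`-element centralizing a Sylow `p`-subgroup.
-/

namespace Cfsg.Agent.H86.PPrime

open Subgroup
open scoped Pointwise

variable {G : Type*} [Group G] [Finite G] {p : ℕ} [hp : Fact p.Prime]

namespace Cfg

variable (c : Cfg p G)
include c

theorem commute_of_normalizes {B : Subgroup G} (hB : ¬ p ∣ Nat.card B) {g : G} (hg : ¬ p ∣ orderOf g)
    (hn : g ∈ normalizer (B : Set G)) : ∀ b ∈ B, g * b = b * g := by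
  set S := B ⊔ zpowers g
  haveI : (B.subgroupOf S).Normal := by
    rw [normal_subgroupOf_iff_le_normalizer le_sup_left]
    exact sup_le le_normalizer (zpowers_le.2 hn)
  have h1 := H19.card_sup_dvd (B.subgroupOf S) ((zpowers g).subgroupOf S)
  have htop : B.subgroupOf S ⊔ (zpowers g).subgroupOf S = ⊤ := by
    rw [← subgroupOf_sup le_sup_left le_sup_right, subgroupOf_self]
  rw [htop, card_top, Nat.card_congr (subgroupOfEquivOfLe le_sup_left).toEquiv,
    Nat.card_congr (subgroupOfEquivOfLe le_sup_right).toEquiv, Nat.card_zpowers] at h1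
  have hS : ¬ p ∣ Nat.card S := fun h => (hp.out.dvd_mul.1 (h.trans h1)).elim hB hg
  exact fun b hb => c.ab S hS g (mem_sup_right (mem_zpowers g)) b (mem_sup_left hb)

theorem not_dvd_of_sylow {q : ℕ} [hq : Fact q.Prime] (hqp : q ≠ p) (Q : Sylow q G) : ¬ p ∣ Nat.card Q := by
  obtain ⟨k, hk⟩ := Q.2.exists_card_eq
  rw [hk]
  exact fun h => hqp ((Nat.prime_dvd_prime_iff_eq hp.out hq.out).1 (hp.out.dvd_of_dvd_pow h)).symm

theorem orderOf_sylow_ne {q : ℕ} [Fact q.Prime] (hqp : q ≠ p) (Q : Sylow q G) {v : G} (hv : v ∈ (Q : Subgroup G)) :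
    ¬ p ∣ orderOf v :=
  not_dvd_card_iff.1 (c.not_dvd_of_sylow hqp Q) v hv

/-- A `p`-element moving a centralizing element to a centralizing element centralizes. -/
theorem move {q : ℕ} [Fact q.Prime] (hqp : q ≠ p) (P : Sylow p G) (Q : Sylow q G)
    (hQN : (Q : Subgroup G) ≤ normalizer ((P : Subgroup G) : Set G)) {z v : G} (hz : ∃ k, z ^ p ^ k = 1)
    (hzQ : z ∈ normalizer ((Q : Subgroup G) : Set G)) (hv : v ∈ (Q : Subgroup G)) (hv1 : v ≠ 1)
    (hvP : ∀ w ∈ (P : Subgroup G), v * w = w * v) (hzv : ∀ w ∈ (P : Subgroup G), z * v * z⁻¹ * w = w * (z * v * z⁻¹)) :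
    ∀ s ∈ (Q : Subgroup G), z * s = s * z := by
  have hC := c.centralizer_eq P (c.orderOf_sylow_ne hqp Q hv) hv1 hvP
  have hC' := c.centralizer_eq P (y := z * v * z⁻¹) (c.orderOf_sylow_ne hqp Q ((mem_normalizer_iff.1 hzQ v).1 hv))
    (fun h => hv1 (conj_eq_one_iff.1 h)) hzv
  have hzN : z ∈ normalizer ((P : Subgroup G) : Set G) := by
    have hNN : normalizer ((normalizer ((P : Subgroup G) : Set G) : Subgroup G) : Set G) = normalizer ((P : Subgroup G) : Set G) :=
      P.normalizer_normalizer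
    rw [← hNN, mem_normalizer_iff_map_conj_eq]
    refine eq_of_le_of_card_ge ?_ (card_map_of_injective (MulAut.conj z).injective).ge
    rintro _ ⟨x, hx, rfl⟩
    have hx' : x ∈ normalizer ((P : Subgroup G) : Set G) := hx
    rw [← hC, mem_centralizer_singleton_iff] at hx'
    show MulAut.conj z x ∈ normalizer ((P : Subgroup G) : Set G)
    rw [← hC', mem_centralizer_singleton_iff]
    exact ((show Commute x v from hx').map (MulAut.conj z)).eq
  obtain ⟨k, hk⟩ := hz
  have hzP := c.mem_sylow_of_normalizes P hzN hk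
  intro s hs
  have h1 : z * s * z⁻¹ * s⁻¹ ∈ (P : Subgroup G) := by
    rw [mul_assoc, mul_assoc, ← mul_assoc s]
    exact mul_mem hzP ((mem_normalizer_iff.1 (hQN hs) _).1 (inv_mem hzP))
  have h2 : z * s * z⁻¹ * s⁻¹ ∈ (Q : Subgroup G) := mul_mem ((mem_normalizer_iff.1 hzQ s).1 hs) (inv_mem hs)
  have := eq_one_of_mem_of_coprime P.2 h1 (c.orderOf_sylow_ne hqp Q h2)
  rwa [mul_inv_eq_one, mul_inv_eq_iff_eq_mul] at this

/-- The automorphisms of `Ω₁(P)` induced by a subgroup of `N(P)`. -/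
theorem exists_hom (P : Sylow p G) (W : Subgroup G) (hW : W ≤ normalizer ((P : Subgroup G) : Set G))
    (hWp : ¬ p ∣ Nat.card W) :
    ∃ (Ω : Subgroup G) (ψ : W →* MulAut Ω), Nat.card Ω = p ∧ IsCyclic Ω ∧
      ∀ u : W, ψ u = 1 ↔ (u : G) ∈ centralizer ((P : Subgroup G) : Set G) := by
  have : IsCyclic (P : Subgroup G) := c.cyc P
  obtain ⟨w, hw⟩ := exists_prime_orderOf_dvd_card' (G := (P : Subgroup G)) p (P.dvd_card_of_dvd_card c.dvd)
  have hw' : orderOf (w : G) = p := by rw [Subgroup.orderOf_coe, hw]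
  have hw1 : (w : G) ≠ 1 := fun h => by rw [h, orderOf_one] at hw'; exact hp.out.ne_one hw'.symm
  set Ω := zpowers (w : G) with hΩ
  have hΩc : Nat.card Ω = p := by rw [hΩ, Nat.card_zpowers, hw']
  have hN : ∀ g ∈ normalizer ((P : Subgroup G) : Set G), g ∈ normalizer (Ω : Set G) := by
    intro g hg
    rw [mem_normalizer_iff_map_conj_eq]
    have h1 : Ω.map (MulAut.conj g).toMonoidHom ≤ (P : Subgroup G) := by
      rintro _ ⟨z, hz, rfl⟩
      exact (mem_normalizer_iff.1 hg z).1 (zpowers_le.2 w.2 hz)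
    have h2 : (Ω.map (MulAut.conj g).toMonoidHom).subgroupOf (P : Subgroup G) = Ω.subgroupOf (P : Subgroup G) :=
      eq_of_card_eq_of_cyclic (by
        rw [Nat.card_congr (subgroupOfEquivOfLe h1).toEquiv, Nat.card_congr (subgroupOfEquivOfLe (zpowers_le.2 w.2)).toEquiv,
          card_map_of_injective (MulAut.conj g).injective])
    have h3 := congrArg (Subgroup.map (P : Subgroup G).subtype) h2
    rw [map_subgroupOf_eq_of_le h1, map_subgroupOf_eq_of_le (zpowers_le.2 w.2)] at h3
    exact h3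
  refine ⟨Ω, (normalizerMonoidHom Ω).comp (inclusion fun g hg => hN g (hW hg)), hΩc, inferInstance, fun u => ?_⟩
  rw [MulEquiv.ext_iff, Subtype.forall]
  have hup : ¬ p ∣ orderOf (u : G) := not_dvd_card_iff.1 hWp u u.2
  constructor
  · intro h
    have h1 := congrArg Subtype.val (h (w : G) (mem_zpowers _))
    change (u : G) * (w : G) * (u : G)⁻¹ = (w : G) at h1
    rw [mul_inv_eq_iff_eq_mul] at h1
    exact mem_centralizer_iff.2 fun v hv => (cyclic_fix P.2 hup (hW u.2) w.2 hw1 h1 v hv).symm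
  · intro h x hx
    apply Subtype.ext
    show (u : G) * x * (u : G)⁻¹ = x
    rw [← mem_centralizer_iff.1 h x (zpowers_le.2 w.2 hx), mul_inv_cancel_right]

/-- The index of `C_W(P)` in `W`. -/
theorem index_dvd (P : Sylow p G) (W : Subgroup G) (hW : W ≤ normalizer ((P : Subgroup G) : Set G))
    (hWp : ¬ p ∣ Nat.card W) :
    ((centralizer ((P : Subgroup G) : Set G)).subgroupOf W).index ∣ p - 1 ∧
      ∀ n : ℕ, (∀ u ∈ W, u ^ n = 1) → ((centralizer ((P : Subgroup G) : Set G)).subgroupOf W).index ∣ n := by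
  obtain ⟨Ω, ψ, hΩ, hcyc, hψ⟩ := c.exists_hom P W hW hWp
  have hker : ψ.ker = (centralizer ((P : Subgroup G) : Set G)).subgroupOf W := by
    ext u; rw [MonoidHom.mem_ker, hψ u, mem_subgroupOf]
  rw [← hker, index_ker]
  constructor
  · refine ψ.range.card_subgroup_dvd_card.trans ?_
    rw [IsCyclic.card_mulAut, hΩ, Nat.totient_prime hp.out]
  · intro n hn
    haveI : Fact (Nat.card Ω).Prime := ⟨hΩ.symm ▸ hp.out⟩
    haveI : IsCyclic (MulAut Ω) := (IsCyclic.mulAutMulEquiv Ω).isCyclic.2 inferInstance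
    rw [← IsCyclic.exponent_eq_card]
    refine Monoid.exponent_dvd_of_forall_pow_eq_one ?_
    rintro ⟨_, u, rfl⟩
    apply Subtype.ext
    show ψ u ^ n = 1
    rw [← map_pow, show u ^ n = 1 from Subtype.ext (hn u u.2), map_one]

/-- Two disjoint copies of `C_W(P)` in `W`. -/
theorem card_centralizing_le {q : ℕ} [Fact q.Prime] (hqp : q ≠ p) (P : Sylow p G) (Q : Sylow q G)
    (hQN : (Q : Subgroup G) ≤ normalizer ((P : Subgroup G) : Set G)) {z : G} (hz : ∃ k, z ^ p ^ k = 1)
    (hzQ : z ∈ normalizer ((Q : Subgroup G) : Set G)) (hzc : ¬ ∀ s ∈ (Q : Subgroup G), z * s = s * z)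
    (W : Subgroup G) (hWQ : W ≤ Q) (hzW : ∀ v ∈ W, z * v * z⁻¹ ∈ W) :
    Nat.card ((centralizer ((P : Subgroup G) : Set G)).subgroupOf W) ≤
      ((centralizer ((P : Subgroup G) : Set G)).subgroupOf W).index := by
  set W₀ := (centralizer ((P : Subgroup G) : Set G)).subgroupOf W
  let f : W₀ × W₀ → W := fun ab =>
    ⟨(ab.1 : G) * (z * (ab.2 : G) * z⁻¹), mul_mem ab.1.1.2 (hzW _ ab.2.1.2)⟩
  have hf : Function.Injective f := by
    rintro ⟨a, b⟩ ⟨a', b'⟩ h
    have h' : (a : G) * (z * (b : G) * z⁻¹) = (a' : G) * (z * (b' : G) * z⁻¹) := congrArg Subtype.val h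
    have hb : (b : G) = b' := by
      by_contra hne
      refine hzc (c.move hqp P Q hQN hz hzQ (v := (b : G) * (b' : G)⁻¹) (mul_mem (hWQ b.1.2) (inv_mem (hWQ b'.1.2)))
        (fun e => hne (mul_inv_eq_one.1 e)) (fun w hw => ?_) fun w hw => ?_)
      · exact (mem_centralizer_iff.1 (mul_mem b.2 (inv_mem b'.2)) w hw).symm
      · have : z * ((b : G) * (b' : G)⁻¹) * z⁻¹ = (a : G)⁻¹ * a' := by
          calc z * ((b : G) * (b' : G)⁻¹) * z⁻¹ = (a : G)⁻¹ * ((a : G) * (z * (b : G) * z⁻¹)) * (z * (b' : G) * z⁻¹)⁻¹ := by group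
            _ = _ := by rw [h']; group
        rw [this]
        exact (mem_centralizer_iff.1 (mul_mem (inv_mem a.2) a'.2) w hw).symm
    rw [hb] at h'
    exact Prod.ext (Subtype.ext (Subtype.ext (mul_right_cancel h'))) (Subtype.ext (Subtype.ext hb))
  have h1 := Nat.card_le_card_of_injective f hf
  rw [Nat.card_prod] at h1
  conv_rhs at h1 => rw [← W₀.card_mul_index]
  exact Nat.le_of_mul_le_mul_left h1 Nat.card_pos

/-- A prime order element centralizing `P` forces `p = 3`, `q = 2` and a Sylow subgroup of order `4`. -/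
theorem central_prime {q : ℕ} [hq : Fact q.Prime] (P : Sylow p G) {y : G} (hy : orderOf y = q) (hqp : q ≠ p)
    (hyP : ∀ v ∈ (P : Subgroup G), y * v = v * y) :
    q = 2 ∧ p = 3 ∧ ∃ Q : Sylow q G, Nat.card Q = 4 ∧ y ∈ (Q : Subgroup G) ∧
      (Q : Subgroup G) ≤ normalizer ((P : Subgroup G) : Set G) ∧
      Nat.card ((centralizer ((P : Subgroup G) : Set G)).subgroupOf (Q : Subgroup G)) = 2 ∧
      ∃ z ∈ normalizer ((Q : Subgroup G) : Set G), (∃ k, z ^ p ^ k = 1) ∧ (¬ ∀ s ∈ (Q : Subgroup G), z * s = s * z) ∧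
        ∀ s ∈ (Q : Subgroup G), z ^ p * s = s * z ^ p := by
  classical
  have := c.simple
  have hy1 : y ≠ 1 := fun h => by rw [h, orderOf_one] at hy; exact hq.out.ne_one hy.symm
  have hyp : ¬ p ∣ orderOf y := by
    rw [hy, Nat.prime_dvd_prime_iff_eq hp.out hq.out]; exact hqp.symm
  obtain ⟨Q, hQ⟩ := (IsPGroup.of_card (n := 1) (G := zpowers y) (p := q) (by rw [Nat.card_zpowers, hy, pow_one])).exists_le_sylow
  have hyQ := hQ (mem_zpowers y)
  have hQp := c.not_dvd_of_sylow hqp Q
  have hQab : ∀ a ∈ (Q : Subgroup G), ∀ b ∈ (Q : Subgroup G), a * b = b * a := c.ab _ hQp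
  have hQN : (Q : Subgroup G) ≤ normalizer ((P : Subgroup G) : Set G) := by
    rw [← c.centralizer_eq P hyp hy1 hyP]
    exact fun a ha => mem_centralizer_singleton_iff.2 (hQab a ha y hyQ)
  -- a moving element
  obtain ⟨z₀, hz₀N, hz₀p, hz₀⟩ : ∃ z ∈ normalizer ((Q : Subgroup G) : Set G), (∃ k, z ^ p ^ k = 1) ∧ ¬ ∀ s ∈ (Q : Subgroup G), z * s = s * z := by
    by_contra h
    push Not at h
    refine (H22.not_hasNormalPComplement_of_simple (p := q) c.nonab (hy ▸ orderOf_dvd_natCard y))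
      (H22.burnside_normal_complement Q fun g hg => ?_)
    obtain ⟨a, b, hab, -, ⟨k, hk⟩, hb, hag, hbg⟩ := split (p := p) g
    have hN : zpowers g ≤ normalizer ((Q : Subgroup G) : Set G) := zpowers_le.2 hg
    rw [mem_centralizer_iff]
    intro v hv
    have h1 := h a (hN hag) ⟨k, hk⟩ v hv
    have h2 := c.commute_of_normalizes hQp hb (hN hbg) v hv
    rw [hab, ← mul_assoc, ← h1, mul_assoc, ← h2, ← mul_assoc]
  -- make the `p`-th power centralize
  obtain ⟨z, hzN, hzp, hz, hzc⟩ : ∃ z ∈ normalizer ((Q : Subgroup G) : Set G), (∃ k, z ^ p ^ k = 1) ∧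
      (¬ ∀ s ∈ (Q : Subgroup G), z * s = s * z) ∧ ∀ s ∈ (Q : Subgroup G), z ^ p * s = s * z ^ p := by
    obtain ⟨k, hk⟩ := hz₀p
    have hex : ∃ j, ∀ s ∈ (Q : Subgroup G), z₀ ^ p ^ j * s = s * z₀ ^ p ^ j := ⟨k, fun s _ => by rw [hk, one_mul, mul_one]⟩
    have h0 : Nat.find hex ≠ 0 := fun e => hz₀ (by simpa [e] using Nat.find_spec hex)
    obtain ⟨j, hj⟩ := Nat.exists_eq_succ_of_ne_zero h0
    refine ⟨z₀ ^ p ^ j, pow_mem hz₀N _, ⟨k, ?_⟩, Nat.find_min hex (by omega), ?_⟩
    · rw [← pow_mul, mul_comm, pow_mul, hk, one_pow]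
    · rw [← pow_mul, ← pow_succ, ← Nat.succ_eq_add_one, ← hj]; exact Nat.find_spec hex
  -- `V = Ω₁(Q)`
  let V : Subgroup G :=
    { carrier := {v | v ∈ (Q : Subgroup G) ∧ v ^ q = 1}
      one_mem' := ⟨one_mem _, one_pow q⟩
      mul_mem' := fun {a b} ha hb => ⟨mul_mem ha.1 hb.1, by
        rw [(show Commute a b from hQab a ha.1 b hb.1).mul_pow, ha.2, hb.2, one_mul]⟩
      inv_mem' := fun {a} ha => ⟨inv_mem ha.1, by rw [inv_pow, ha.2, inv_one]⟩ }
  have hVQ : V ≤ Q := fun v hv => hv.1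
  have hVp : ¬ p ∣ Nat.card V := fun h => hQp (h.trans (card_dvd_of_le hVQ))
  have hzV : ∀ v ∈ V, z * v * z⁻¹ ∈ V := fun v hv =>
    ⟨(mem_normalizer_iff.1 hzN v).1 hv.1, by rw [conj_pow, hv.2, mul_one, mul_inv_cancel]⟩
  have hyV : y ∈ V := ⟨hyQ, by rw [← hy, pow_orderOf_eq_one]⟩
  obtain ⟨hd1, hd2⟩ := c.index_dvd P V (hVQ.trans hQN) hVp
  have hdq := hd2 q fun u hu => hu.2
  have hle := c.card_centralizing_le hqp P Q hQN hzp hzN hz V hVQ hzV
  set V₀ := (centralizer ((P : Subgroup G) : Set G)).subgroupOf V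
  have hyV₀ : (⟨y, hyV⟩ : V) ∈ V₀ := by
    rw [mem_subgroupOf, mem_centralizer_iff]; exact fun v hv => (hyP v hv).symm
  have hqo : q ∣ Nat.card V₀ := by
    have := V₀.orderOf_dvd_natCard hyV₀
    rwa [Subgroup.orderOf_mk, hy] at this
  have hindex : V₀.index = q := by
    rcases (Nat.dvd_prime hq.out).1 hdq with h | h
    · exfalso
      have := Nat.le_of_dvd Nat.card_pos hqo
      have := hq.out.two_le
      omega
    · exact h
  have ho : Nat.card V₀ = q :=
    le_antisymm (hle.trans hindex.le) (Nat.le_of_dvd Nat.card_pos hqo)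
  rw [hindex] at hd1
  have hVc : Nat.card V = q * q := by rw [← V₀.card_mul_index, ho, hindex]
  -- `p` translates
  have hp1 : p ≤ q + 1 := by
    let f : Fin p × {a : V₀ // a ≠ 1} → {v : V // v ≠ 1} := fun ma =>
      ⟨⟨z ^ (ma.1 : ℕ) * (ma.2.1 : G) * (z ^ (ma.1 : ℕ))⁻¹, by
        have : ∀ m : ℕ, ∀ v ∈ V, z ^ m * v * (z ^ m)⁻¹ ∈ V := fun m v hv =>
          ⟨(mem_normalizer_iff.1 (pow_mem hzN m) v).1 hv.1, by rw [conj_pow, hv.2, mul_one, mul_inv_cancel]⟩
        exact this _ _ ma.2.1.1.2⟩, fun h => ma.2.2 (Subtype.ext (Subtype.ext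
          (conj_eq_one_iff.1 (congrArg Subtype.val h))))⟩
    have key : ∀ (m n : ℕ) (a b : V₀), m ≤ n → n < p → a ≠ 1 →
        z ^ n * (a : G) * (z ^ n)⁻¹ = z ^ m * (b : G) * (z ^ m)⁻¹ → m = n := by
      intro m n a b hmn hn ha h
      by_contra hne
      apply hz
      have hconj : z ^ (n - m) * (a : G) * (z ^ (n - m))⁻¹ = b := by
        rw [show n = m + (n - m) by omega, pow_add] at h
        have : z ^ m * (z ^ (n - m) * (a : G) * (z ^ (n - m))⁻¹) * (z ^ m)⁻¹ = z ^ m * (b : G) * (z ^ m)⁻¹ := by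
          rw [← h]; group
        exact mul_left_cancel (mul_right_cancel this)
      obtain ⟨k, hk⟩ := hzp
      have hcent := c.move hqp P Q hQN (z := z ^ (n - m)) ⟨k, by rw [← pow_mul, mul_comm, pow_mul, hk, one_pow]⟩
        (pow_mem hzN _) (hVQ a.1.2) (fun e => ha (Subtype.ext (Subtype.ext e)))
        (fun w hw => (mem_centralizer_iff.1 a.2 w hw).symm)
        (fun w hw => by rw [hconj]; exact (mem_centralizer_iff.1 b.2 w hw).symm)
      have hco : Nat.Coprime (n - m) p :=
        (hp.out.coprime_iff_not_dvd.2 (Nat.not_dvd_of_pos_of_lt (by omega) (by omega))).symm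
      obtain ⟨i, hi⟩ := Nat.exists_mul_mod_eq_one_of_coprime hco hp.out.one_lt
      intro s hs
      have e1 : Commute (z ^ ((n - m) * i)) s := by rw [pow_mul]; exact (show Commute (z ^ (n - m)) s from hcent s hs).pow_left i
      have e2 : Commute (z ^ (p * ((n - m) * i / p))) s := by rw [pow_mul]; exact (show Commute (z ^ p) s from hzc s hs).pow_left _
      have e4 : p * ((n - m) * i / p) + 1 = (n - m) * i := by
        have := Nat.div_add_mod ((n - m) * i) p; rwa [hi.2] at this
      have e3 : z = (z ^ (p * ((n - m) * i / p)))⁻¹ * z ^ ((n - m) * i) := by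
        rw [eq_inv_mul_iff_mul_eq, ← pow_succ, e4]
      rw [e3]; exact (e2.inv_left.mul_left e1).eq
    have hf : Function.Injective f := by
      rintro ⟨⟨m, hm⟩, a⟩ ⟨⟨n, hn⟩, b⟩ h
      have h' : z ^ m * (a.1 : G) * (z ^ m)⁻¹ = z ^ n * (b.1 : G) * (z ^ n)⁻¹ :=
        congrArg (fun v : {v : V // v ≠ 1} => ((v.1 : V) : G)) h
      have hmn : m = n := by
        rcases le_total m n with hle | hle
        · exact key m n b.1 a.1 hle hn b.2 h'.symm
        · exact (key n m a.1 b.1 hle hm a.2 h').symm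
      subst hmn
      exact Prod.ext rfl (Subtype.ext (Subtype.ext (Subtype.ext (mul_left_cancel (mul_right_cancel h')))))
    have h1 := Nat.card_le_card_of_injective f hf
    rw [Nat.card_prod, Nat.card_fin] at h1
    have h2 : Nat.card {a : V₀ // a ≠ 1} = q - 1 := by
      have := Fintype.ofFinite V₀
      rw [Nat.card_eq_fintype_card, Fintype.card_subtype_compl, Fintype.card_subtype_eq, ← Nat.card_eq_fintype_card, ho]
    have h3 : Nat.card {v : V // v ≠ 1} = q * q - 1 := by
      have := Fintype.ofFinite V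
      rw [Nat.card_eq_fintype_card, Fintype.card_subtype_compl, Fintype.card_subtype_eq, ← Nat.card_eq_fintype_card, hVc]
    rw [h2, h3] at h1
    have hsq : q * q - 1 = (q + 1) * (q - 1) := by
      rw [← Nat.sq_sub_sq q 1 |>.trans rfl, one_pow, sq]
    rw [hsq] at h1
    exact Nat.le_of_mul_le_mul_right h1 (by have := hq.out.two_le; omega)
  have hqlt : q < p := lt_of_le_of_lt (Nat.le_of_dvd (by have := hp.out.two_le; omega) hd1) (by have := hp.out.two_le; omega)
  have hpq : p = q + 1 := by omega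
  have hq2 : q = 2 := by
    rcases hq.out.eq_two_or_odd with h | h
    · exact h
    · exfalso
      rcases hp.out.eq_two_or_odd with h' | h'
      · exact c.odd h'
      · omega
  have hp3 : p = 3 := by omega
  refine ⟨hq2, hp3, Q, ?_⟩
  have hleQ := c.card_centralizing_le hqp P Q hQN hzp hzN hz Q le_rfl fun v hv => (mem_normalizer_iff.1 hzN v).1 hv
  obtain ⟨hdQ, -⟩ := c.index_dvd P (Q : Subgroup G) hQN hQp
  set Q₀ := (centralizer ((P : Subgroup G) : Set G)).subgroupOf (Q : Subgroup G)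
  have h2o : 2 ∣ Nat.card Q₀ := by
    have := Q₀.orderOf_dvd_natCard (x := (⟨y, hyQ⟩ : (Q : Subgroup G)))
      (by rw [mem_subgroupOf, mem_centralizer_iff]; exact fun v hv => (hyP v hv).symm)
    rw [Subgroup.orderOf_mk, hy] at this
    exact hq2.symm.dvd.trans this
  have hdle : Q₀.index ≤ 2 := Nat.le_of_dvd (by omega) (by rw [hp3] at hdQ; exact hdQ)
  have ho2 : Nat.card Q₀ = 2 := by
    have := Nat.le_of_dvd Nat.card_pos h2o
    omega
  refine ⟨?_, hyQ, hQN, ho2, z, hzN, hzp, hz, hzc⟩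
  have := Q₀.card_mul_index
  rw [ho2] at this
  omega

theorem false_of_central (P : Sylow p G) {y₀ : G} (hy₀ : ¬ p ∣ orderOf y₀) (hy₀1 : y₀ ≠ 1)
    (hy₀P : ∀ v ∈ (P : Subgroup G), y₀ * v = v * y₀) : False := by
  classical
  have := c.simple
  -- a central involution
  have hred : ∀ u : G, (∀ v ∈ (P : Subgroup G), u * v = v * u) → ∀ r : ℕ, r.Prime → r ≠ p → r ∣ orderOf u → r = 2 ∧ p = 3 := by
    intro u hu r hr hrp hru
    have := Fact.mk hr
    obtain ⟨m, hm⟩ := hru
    have hm0 : m ≠ 0 := by rintro rfl; simp [(orderOf_pos u).ne'] at hm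
    obtain ⟨h1, h2, -⟩ := c.central_prime P (q := r) (y := u ^ m)
      (by rw [orderOf_pow' u hm0, hm, Nat.gcd_mul_left_left, Nat.mul_div_cancel _ (Nat.pos_of_ne_zero hm0)]) hrp
      fun v hv => (show Commute u v from hu v hv).pow_left m
    exact ⟨h1, h2⟩
  obtain ⟨r, hr, hrd⟩ := Nat.exists_prime_and_dvd (fun h => hy₀1 (orderOf_eq_one_iff.1 h))
  have hrp : r ≠ p := fun e => hy₀ (e ▸ hrd)
  obtain ⟨rfl, hp3⟩ := hred y₀ hy₀P r hr hrp hrd
  have := Fact.mk hr
  obtain ⟨m, hm⟩ := hrd
  have hm0 : m ≠ 0 := by rintro rfl; simp [(orderOf_pos y₀).ne'] at hm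
  set t := y₀ ^ m with htdef
  have ht : orderOf t = 2 := by
    rw [orderOf_pow' y₀ hm0, hm, Nat.gcd_mul_left_left, Nat.mul_div_cancel _ (Nat.pos_of_ne_zero hm0)]
  have htP : ∀ v ∈ (P : Subgroup G), t * v = v * t := fun v hv => (show Commute y₀ v from hy₀P v hv).pow_left m
  obtain ⟨-, -, Q, hQc, htQ, hQN, hQ₀, z, hzN, hzp, hz, hzc⟩ := c.central_prime P ht hrp htP
  have ht1 : t ≠ 1 := fun h => by rw [h, orderOf_one] at ht; omega
  have htp : ¬ p ∣ orderOf t := by rw [ht, Nat.prime_dvd_prime_iff_eq hp.out hr]; exact hrp.symm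
  set N := normalizer ((P : Subgroup G) : Set G) with hN
  have hCt : centralizer ({t} : Set G) = N := c.centralizer_eq P htp ht1 htP
  set CP := centralizer ((P : Subgroup G) : Set G)
  have hQ₀' : ∀ v ∈ (Q : Subgroup G), v ∈ CP → v = 1 ∨ v = t := by
    intro v hv hvC
    by_contra h
    push Not at h
    have : ({1, ⟨t, htQ⟩, ⟨v, hv⟩} : Finset (Q : Subgroup G)).card ≤ Nat.card (CP.subgroupOf (Q : Subgroup G)) := by
      rw [← Nat.card_eq_finsetCard]
      refine Nat.card_le_card_of_injective (fun x => ⟨x.1, ?_⟩) fun a b e => Subtype.ext (congrArg Subtype.val e :)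
      have hx := x.2
      simp only [Finset.mem_insert, Finset.mem_singleton] at hx
      rw [mem_subgroupOf]
      rcases hx with e | e | e <;> rw [e]
      · exact one_mem _
      · exact mem_centralizer_iff.2 fun w hw => (htP w hw).symm
      · exact hvC
    rw [hQ₀, Finset.card_insert_of_notMem (by simp [Subtype.ext_iff, ht1.symm, Ne.symm h.1]),
      Finset.card_pair (fun e => h.2 (congrArg Subtype.val e).symm)] at this
    omega
  -- another involution of `Q`
  obtain ⟨s, hsQ, hs1, hst, hs⟩ : ∃ s ∈ (Q : Subgroup G), s ≠ 1 ∧ s ≠ t ∧ orderOf s = 2 := by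
    refine ⟨z * t * z⁻¹, (mem_normalizer_iff.1 hzN t).1 htQ, fun e => ht1 (conj_eq_one_iff.1 e), fun e => hz ?_,
      ((MulAut.conj z).orderOf_eq t).trans ht⟩
    exact c.move hrp P Q hQN hzp hzN htQ ht1 htP fun w hw => by rw [e]; exact htP w hw
  have hsN : s ∈ N := hQN hsQ
  have hsne : ¬ ∀ v ∈ (P : Subgroup G), s * v = v * s := fun h =>
    (hQ₀' s hsQ (mem_centralizer_iff.2 fun w hw => (h w hw).symm)).elim hs1 hst
  have : IsCyclic (P : Subgroup G) := c.cyc P
  have hinv : ∀ v ∈ (P : Subgroup G), s * v * s⁻¹ = v⁻¹ := fun v hv =>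
    inverts_of_involution c.odd P.2 hs hsN hsne hv
  -- the order of `N`
  have hPN : (P : Subgroup G) ≤ N := le_normalizer
  obtain ⟨b, hb⟩ := (P : Subgroup G).card_dvd_of_le hPN
  have hbp : ¬ p ∣ b := by
    intro h
    refine P.not_dvd_index ?_
    have h1 := N.card_mul_index
    rw [hb, mul_assoc] at h1
    have h2 := (P : Subgroup G).card_mul_index
    rw [← h1] at h2
    rw [Nat.eq_of_mul_eq_mul_left Nat.card_pos h2]
    exact dvd_mul_of_dvd_left h _
  have hb4 : b = 4 := by
    have h4 : 4 ∣ b := by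
      have h1 : 4 ∣ Nat.card P * b := hb ▸ hQc ▸ card_dvd_of_le hQN
      obtain ⟨k, hk⟩ := P.2.exists_card_eq
      exact Nat.Coprime.dvd_of_dvd_mul_left (by rw [hk, hp3]; exact Nat.Coprime.pow_right k (by norm_num)) h1
    have hpow : ∀ r : ℕ, r.Prime → r ∣ b → r = 2 := by
      intro r hr hrb
      have := Fact.mk hr
      obtain ⟨u, hu⟩ := exists_prime_orderOf_dvd_card' (G := N) r (hb ▸ dvd_mul_of_dvd_right hrb _)
      have hu' : orderOf (u : G) = r := by rw [Subgroup.orderOf_coe, hu]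
      have hrp' : r ≠ p := fun e => hbp (e ▸ hrb)
      by_contra hr2
      have hup : ¬ p ∣ Nat.card (zpowers (u : G)) := by
        rw [Nat.card_zpowers, hu', Nat.prime_dvd_prime_iff_eq hp.out hr]; exact hrp'.symm
      obtain ⟨h1, h2⟩ := c.index_dvd P (zpowers (u : G)) (zpowers_le.2 u.2) hup
      have h3 := h2 r fun v hv => orderOf_dvd_iff_pow_eq_one.1 (hu' ▸ (Nat.card_zpowers (u : G)) ▸ (zpowers (u : G)).orderOf_dvd_natCard hv)
      have h1 := h1.trans (show p - 1 = 2 by omega).dvd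
      have h4 : (CP.subgroupOf (zpowers (u : G))).index = 1 := by
        rcases (Nat.dvd_prime hr).1 h3 with e | e
        · exact e
        · rw [e] at h1; exact absurd ((Nat.prime_dvd_prime_iff_eq hr Nat.prime_two).1 h1) hr2
      rw [index_eq_one, subgroupOf_eq_top] at h4
      exact hr2 (hred u (fun v hv => (mem_centralizer_iff.1 (h4 (mem_zpowers _)) v hv).symm) r hr hrp' hu'.symm.dvd).1
    have hb0 : b ≠ 0 := fun h => by rw [h, mul_zero] at hb; exact Nat.card_pos.ne' hb
    have hbe : b = 2 ^ b.primeFactorsList.length := by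
      exact Nat.eq_prime_pow_of_unique_prime_dvd hb0 fun {d} hd hdb => hpow d hd hdb
    have hb2 : b ∣ 4 := by
      have : 2 ^ b.primeFactorsList.length ∣ Nat.card Q := by
        rw [Q.card_eq_multiplicity]
        refine pow_dvd_pow 2 ((hr.pow_dvd_iff_le_factorization Nat.card_pos.ne').1 ?_)
        rw [← hbe]
        exact (dvd_mul_left b _).trans (hb ▸ card_subgroup_dvd_card N)
      rwa [← hbe, hQc] at this
    exact Nat.dvd_antisymm hb2 h4
  rw [hb4] at hb
  -- the subgroup `K`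
  set T := zpowers t
  haveI hTn : T ≤ normalizer ((P : Subgroup G) : Set G) := zpowers_le.2 (hQN htQ)
  set K := (P : Subgroup G) ⊔ T with hKdef
  have hKN : K ≤ N := sup_le hPN hTn
  have hKab : IsMulCommutative K := by
    refine H24.isMulCommutative_sup_zpowers ⟨⟨fun a b => Subtype.ext (c.sylow_comm P a a.2 b b.2)⟩⟩ ?_
    exact mem_centralizer_iff.2 fun w hw => (htP w hw).symm
  have hKform : ∀ x ∈ K, ∃ v ∈ (P : Subgroup G), x = v ∨ x = v * t := by
    intro x hx
    have hx' : x ∈ ((K : Subgroup G) : Set G) := hx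
    rw [hKdef, coe_mul_of_right_le_normalizer_left _ _ hTn] at hx'
    obtain ⟨v, hv, w, hw, rfl⟩ := hx'
    refine ⟨v, hv, ?_⟩
    obtain ⟨i, hi, hi'⟩ := (IsOfFinOrder.mem_zpowers_iff_mem_range_orderOf (isOfFinOrder_of_finite t)).1 hw |> fun h => by
      simpa [ht] using h
    interval_cases i
    · exact Or.inl (by simp [← hi'])
    · exact Or.inr (by simp [← hi'])
  have htt : t * t = 1 := by rw [← sq, ← ht, pow_orderOf_eq_one]
  have hss : s * s = 1 := by rw [← sq, ← hs, pow_orderOf_eq_one]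
  have hcts : Commute s t := c.ab _ (c.not_dvd_of_sylow hrp Q) s hsQ t htQ
  have hstinv : s * t * s⁻¹ = t⁻¹ := by
    rw [hcts.eq, mul_inv_cancel_right]; exact eq_inv_of_mul_eq_one_left htt
  have hinvK : ∀ x ∈ K, s * x * s⁻¹ = x⁻¹ := by
    intro x hx
    obtain ⟨v, hv, rfl | rfl⟩ := hKform x hx
    · exact hinv _ hv
    · rw [mul_inv_rev, ← hstinv, ← hinv v hv]
      have := (show Commute t v from htP v hv)
      calc s * (v * t) * s⁻¹ = s * (t * v) * s⁻¹ := by rw [this.eq]
        _ = _ := by group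
  have hPodd : ∀ v ∈ (P : Subgroup G), v * v = 1 → v = 1 := fun v hv h =>
    eq_one_of_mem_of_coprime P.2 hv fun hd => by
      have h2 := hd.trans (orderOf_dvd_of_pow_eq_one (by rw [sq]; exact h : v ^ 2 = 1))
      rw [Nat.prime_dvd_prime_iff_eq hp.out hr] at h2
      exact hrp h2.symm
  have hsK : s ∉ K := fun h => by
    obtain ⟨v, hv, e | e⟩ := hKform s h
    · exact hs1 (e.trans (hPodd v hv (by rw [← e, hss])))
    · have hv1 : v = 1 := hPodd v hv (by
        have h2 : v * t * (v * t) = 1 := by rw [← e, hss]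
        calc v * v = v * v * (t * t) := by rw [htt, mul_one]
          _ = v * (v * t) * t := by group
          _ = v * (t * v) * t := by rw [htP v hv]
          _ = 1 := by rw [← h2]; group)
      exact hst (by rw [e, hv1, one_mul])
  have hKs : K ⊔ zpowers s = centralizer ({t} : Set G) := by
    rw [hCt]
    refine eq_of_le_of_card_ge (sup_le hKN (zpowers_le.2 hsN)) (Nat.le_of_dvd Nat.card_pos ?_)
    rw [hb, mul_comm]
    have hQle : (Q : Subgroup G) ≤ K ⊔ zpowers s := by
      have hle : (T ⊔ zpowers s : Subgroup G) ≤ (Q : Subgroup G) := sup_le (zpowers_le.2 htQ) (zpowers_le.2 hsQ)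
      have heq : (T ⊔ zpowers s : Subgroup G) = (Q : Subgroup G) := by
        refine eq_of_le_of_card_ge hle ?_
        obtain ⟨k, hk⟩ := (Q.2.to_le hle).exists_card_eq
        have h1 : 2 < Nat.card (T ⊔ zpowers s : Subgroup G) := by
          refine lt_of_le_of_ne (ht ▸ Nat.card_zpowers t ▸ card_le_of_le le_sup_left) fun e => ?_
          have h2 : T = T ⊔ zpowers s := eq_of_le_of_card_ge le_sup_left (by rw [← e, Nat.card_zpowers, ht])
          have h3 : s ∈ T := h2 ▸ mem_sup_right (mem_zpowers s)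
          exact hsK (mem_sup_right h3)
        rw [hk] at h1 ⊢
        rw [hQc]
        have h2 : 1 < k := (Nat.pow_lt_pow_iff_right one_lt_two).1 (by simpa using h1)
        exact (Nat.pow_le_pow_right two_pos h2 : 2 ^ 2 ≤ 2 ^ k)
      rw [← heq]; exact sup_le (le_sup_of_le_left le_sup_right) le_sup_right
    refine Nat.Coprime.mul_dvd_of_dvd_of_dvd ?_ (hQc ▸ card_dvd_of_le hQle) (card_dvd_of_le (le_sup_of_le_left le_sup_left))
    obtain ⟨k, hk⟩ := P.2.exists_card_eq
    rw [hk, hp3]; exact Nat.Coprime.pow_right k (by norm_num)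
  have hKH : K ≤ centralizer ({t} : Set G) := hCt ▸ hKN
  have hsH : s ∈ centralizer ({t} : Set G) := hCt ▸ hsN
  have htK : t ∈ K := mem_sup_right (mem_zpowers t)
  have hCK : K ⊓ centralizer ({s} : Set G) = zpowers t := by
    refine le_antisymm ?_ (zpowers_le.2 ⟨htK, mem_centralizer_singleton_iff.2 hcts.eq.symm⟩)
    rintro x ⟨hx, hxs⟩
    have h1 := hinvK x hx
    rw [← (mem_centralizer_singleton_iff.1 hxs), mul_inv_cancel_right] at h1
    obtain ⟨v, hv, rfl | rfl⟩ := hKform x hx
    · rw [hPodd _ hv (mul_eq_one_iff_eq_inv.2 h1)]; exact one_mem _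
    · have hv1 : v = 1 := hPodd v hv (by
        have h2 : v * t * (v * t) = 1 := mul_eq_one_iff_eq_inv.2 h1
        calc v * v = v * v * (t * t) := by rw [htt, mul_one]
          _ = v * (v * t) * t := by group
          _ = v * (t * v) * t := by rw [htP v hv]
          _ = 1 := by rw [← h2]; group)
      rw [hv1, one_mul]; exact mem_zpowers t
  have hTI : ∀ g : G, g ∉ centralizer ({t} : Set G) → K ⊓ K.map (MulAut.conj g).toMonoidHom = ⊥ := by
    intro g hg
    rw [eq_bot_iff_forall]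
    rintro x ⟨hx, y, hy, hxy⟩
    by_contra hx1
    apply hg
    have hxy' : g * y * g⁻¹ = x := hxy
    have hsqK : ∀ u ∈ K, u * u ∈ (P : Subgroup G) := by
      intro u hu
      obtain ⟨v, hv, rfl | rfl⟩ := hKform u hu
      · exact mul_mem hv hv
      · rw [show v * t * (v * t) = v * (t * v) * t by group, htP v hv,
          show v * (v * t) * t = v * v * (t * t) by group, htt, mul_one]
        exact mul_mem hv hv
    by_cases hx2 : x * x = 1
    · -- both are `t`
      have key : ∀ u ∈ K, u ≠ 1 → u * u = 1 → u = t := by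
        intro u hu hu1 hu2
        obtain ⟨v, hv, rfl | rfl⟩ := hKform u hu
        · exact absurd (hPodd _ hv hu2) hu1
        · rw [show v * t * (v * t) = v * (t * v) * t by group, htP v hv,
            show v * (v * t) * t = v * v * (t * t) by group, htt, mul_one] at hu2
          rw [hPodd v hv hu2, one_mul]
      have hy1 : y ≠ 1 := fun e => hx1 (by rw [← hxy', e, mul_one, mul_inv_cancel])
      have hy2 : y * y = 1 := conj_eq_one_iff.1 (show g * (y * y) * g⁻¹ = 1 by rw [← hx2, ← hxy']; group)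
      rw [key y hy hy1 hy2, key x hx hx1 hx2] at hxy'
      exact mem_centralizer_singleton_iff.2 (mul_inv_eq_iff_eq_mul.1 hxy')
    · have hy2 : y * y ≠ 1 := fun e => hx2 (by rw [← hxy', show g * y * g⁻¹ * (g * y * g⁻¹) = g * (y * y) * g⁻¹ by group, e, mul_one, mul_inv_cancel])
      rw [hCt, hN, mem_normalizer_iff_map_conj_eq]
      have hcent : (P : Subgroup G).map (MulAut.conj g).toMonoidHom ≤ centralizer ({x * x} : Set G) := by
        rintro _ ⟨w, hw, rfl⟩
        rw [mem_centralizer_singleton_iff]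
        have h2 : MulAut.conj g (y * y) = x * x := by rw [map_mul]; exact congrArg₂ (· * ·) hxy hxy
        rw [← h2]
        exact ((show Commute w (y * y) from c.sylow_comm P w hw _ (hsqK y hy)).map (MulAut.conj g)).eq
      have hle := hcent.trans (c.centralizer_le P (hsqK x hx) hx2)
      have : ((g • P : Sylow p G) : Subgroup G) = (P : Subgroup G) := c.normal_sylow_eq (by rw [Sylow.coe_subgroup_smul]; exact hle)
      rwa [Sylow.coe_subgroup_smul] at this
  -- all involutions are conjugate to `t`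
  have hQcases : ∀ u ∈ (Q : Subgroup G), u ≠ 1 → IsConj t u := by
    intro u hu hu1
    by_cases hut : u = t
    · rw [hut]
    set t1 := z * t * z⁻¹
    set t2 := z * t1 * z⁻¹
    have h11 : t1 ∈ (Q : Subgroup G) := (mem_normalizer_iff.1 hzN t).1 htQ
    have h22 : t2 ∈ (Q : Subgroup G) := (mem_normalizer_iff.1 hzN t1).1 h11
    have hn1 : t1 ≠ t := fun e => hz (c.move hrp P Q hQN hzp hzN htQ ht1 htP fun w hw => by
      rw [show z * t * z⁻¹ = t from e]; exact htP w hw)
    have hn21 : t2 ≠ t1 := fun e => hn1 (mul_left_cancel (mul_right_cancel e))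
    have hz2 : t2 = z ^ 2 * t * (z ^ 2)⁻¹ := by simp only [t2, t1, sq]; group
    have hn2 : t2 ≠ t := fun e => by
      obtain ⟨k, hk⟩ := hzp
      have h := c.move hrp P Q hQN (z := z ^ 2) ⟨k, by rw [← pow_mul, mul_comm, pow_mul, hk, one_pow]⟩
        (pow_mem hzN 2) htQ ht1 htP fun w hw => by rw [← hz2, e]; exact htP w hw
      refine hz fun x hx => ?_
      have e3 : z = (z ^ 2)⁻¹ * z ^ p := by rw [hp3]; group
      rw [e3]
      exact ((show Commute (z ^ 2) x from h x hx).inv_left.mul_left (show Commute (z ^ p) x from hzc x hx)).eq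
    have hne1 : t1 ≠ 1 := fun e => ht1 (conj_eq_one_iff.1 e)
    have hne2 : t2 ≠ 1 := fun e => hne1 (conj_eq_one_iff.1 e)
    have hcases : u = t1 ∨ u = t2 := by
      by_contra h
      push Not at h
      have hc : ({1, ⟨t, htQ⟩, ⟨t1, h11⟩, ⟨t2, h22⟩, ⟨u, hu⟩} : Finset (Q : Subgroup G)).card ≤ Nat.card Q := by
        rw [← Nat.card_eq_finsetCard]
        exact Nat.card_le_card_of_injective (fun x => x.1) fun a b e => Subtype.ext e
      rw [hQc, Finset.card_insert_of_notMem (by simp [Subtype.ext_iff, ht1.symm, hne1.symm, hne2.symm, Ne.symm hu1]),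
        Finset.card_insert_of_notMem (by simp [Subtype.ext_iff, hn1.symm, hn2.symm, Ne.symm hut]),
        Finset.card_insert_of_notMem (by simp [Subtype.ext_iff, hn21.symm, Ne.symm h.1]),
        Finset.card_pair (fun e => h.2 (congrArg Subtype.val e).symm)] at hc
      omega
    rcases hcases with e | e
    · rw [e, isConj_iff]; exact ⟨z, rfl⟩
    · rw [e, isConj_iff]; exact ⟨z ^ 2, hz2.symm⟩
  have hall : ∀ u : G, orderOf u = 2 → IsConj t u := by
    intro u hu
    obtain ⟨R, hR⟩ := (IsPGroup.of_card (n := 1) (G := zpowers u) (p := 2) (by rw [Nat.card_zpowers, hu, pow_one])).exists_le_sylow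
    obtain ⟨g, hg⟩ := MulAction.exists_smul_eq G Q R
    have hu' : u ∈ ((g • Q : Sylow 2 G) : Subgroup G) := hg.symm ▸ hR (mem_zpowers u)
    rw [Sylow.coe_subgroup_smul] at hu'
    obtain ⟨v, hv, rfl⟩ := hu'
    refine (hQcases v hv fun e => ?_).trans (isConj_iff.2 ⟨g, rfl⟩)
    rw [e] at hu
    change orderOf (MulAut.conj g 1) = 2 at hu
    rw [map_one, orderOf_one] at hu; omega
  have hconj : ∀ x y : G, orderOf x = 2 → orderOf y = 2 → IsConj x y := fun x y hx hy =>
    (hall x hx).symm.trans (hall y hy)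
  have hcardC : ∀ u : G, orderOf u = 2 → Nat.card (centralizer ({u} : Set G)) = Nat.card P * 4 := by
    intro u hu
    obtain ⟨g, hg⟩ := isConj_iff.1 (hall u hu)
    rw [← hb, ← hCt]
    have : centralizer ({u} : Set G) = (centralizer ({t} : Set G)).map (MulAut.conj g).toMonoidHom := by
      ext x
      rw [mem_map_equiv, mem_centralizer_singleton_iff, mem_centralizer_singleton_iff]
      rw [show (MulAut.conj g).symm x = g⁻¹ * x * g by simp [mul_assoc]]
      rw [← hg]
      constructor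
      · intro h
        calc g⁻¹ * x * g * t = g⁻¹ * (x * (g * t * g⁻¹)) * g := by group
          _ = g⁻¹ * (g * t * g⁻¹ * x) * g := by rw [h]
          _ = _ := by group
      · intro h
        calc x * (g * t * g⁻¹) = g * (g⁻¹ * x * g * t) * g⁻¹ := by group
          _ = g * (t * (g⁻¹ * x * g)) * g⁻¹ := by rw [h]
          _ = _ := by group
    rw [this, card_map_of_injective (MulAut.conj g).injective]
  obtain ⟨Q', D, hG, hQ', hDab, hD, hQD, hNQ, hX⟩ :=
    S3282.result t ht K hKab hKH htK s hs hsH hsK hKs hCK hinvK hTI hconj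
  -- the contradiction
  set q := Nat.card Q'
  set d := Nat.card D
  set g := Nat.card G
  have hd0 : 0 < d := Nat.card_pos
  have hgd : g = q * (d * 2 * (d + 1)) := by
    have h1 : q * (q + 1) * (q - 1) = 2 * (q * (d * 2 * (d + 1))) := by
      rw [← hD, show 2 * d + 1 - 1 = 2 * d by omega]; ring
    exact Nat.eq_of_mul_eq_mul_left two_pos (hG.trans h1)
  have hPc : 3 ≤ Nat.card P := by
    have : p ∣ Nat.card P := P.dvd_card_of_dvd_card c.dvd
    rw [← hp3]; exact Nat.le_of_dvd Nat.card_pos this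
  have hd1 : d ≠ 1 := by
    intro e
    have hq3 : q = 3 := by rw [← hD, e]
    have h12 : g = 12 := by rw [hgd, hq3, e]
    apply c.centralizer_ne_top ht1
    refine eq_top_of_le_card _ ?_
    rw [hcardC t ht, show Nat.card G = g from rfl, h12]
    omega
  obtain ⟨hNX, u, hu2, huD, huinv, hND⟩ := hX D le_rfl (fun e => hd1 (by rw [← card_bot (G := G), ← e]))
  have hu1 : u ≠ 1 := fun e => by rw [e, orderOf_one] at hu2; omega
  have hDu : zpowers u ≤ normalizer (D : Set G) := hND ▸ le_sup_right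
  have hDucard : Nat.card (D ⊔ zpowers u : Subgroup G) ≤ 2 * d := by
    refine (card_sup_le hDu).trans ?_
    rw [Nat.card_zpowers, hu2]; exact (mul_comm _ _).le
  have hQ'1 : Q' ≠ ⊥ := fun e => by
    have h1 : q = 1 := by rw [show q = Nat.card Q' from rfl, e, card_bot]
    omega
  by_cases h2d : 2 ∣ d
  · have := Fact.mk Nat.prime_two
    obtain ⟨d0, hd0'⟩ := exists_prime_orderOf_dvd_card' (G := D) 2 h2d
    have hd0o : orderOf (d0 : G) = 2 := by rw [Subgroup.orderOf_coe, hd0']
    have hd01 : (d0 : G) ≠ 1 := fun e => by rw [e, orderOf_one] at hd0o; omega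
    obtain ⟨hNd, -⟩ := hX (zpowers (d0 : G)) (zpowers_le.2 d0.2) (zpowers_ne_bot.2 hd01)
    have hCle : centralizer ({(d0 : G)} : Set G) ≤ D ⊔ zpowers u := by
      rw [← hND, ← hNd]
      intro x hx
      rw [mem_normalizer_iff_map_conj_eq, MonoidHom.map_zpowers]
      congr 1
      show x * d0 * x⁻¹ = d0
      rw [mem_centralizer_singleton_iff.1 hx, mul_inv_cancel_right]
    have hge : D ⊔ zpowers u ≤ centralizer ({(d0 : G)} : Set G) := by
      refine sup_le (fun x hx => mem_centralizer_singleton_iff.2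
        (congrArg Subtype.val (hDab.is_comm.comm ⟨x, hx⟩ d0) :)) (zpowers_le.2 (mem_centralizer_singleton_iff.2 ?_))
      have h := huinv d0 d0.2
      rwa [inv_eq_of_mul_eq_one_right (show (d0 : G) * d0 = 1 by rw [← sq, ← hd0o, pow_orderOf_eq_one]), mul_inv_eq_iff_eq_mul] at h
    have heq := le_antisymm hCle hge
    have h4 : Nat.card P * 4 ≤ 2 * d := by rw [← hcardC d0 hd0o, heq]; exact hDucard
    have hlt : d < Nat.card (D ⊔ zpowers u : Subgroup G) := by
      refine lt_of_le_of_ne (card_le_of_le le_sup_left) fun e => huD ?_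
      rw [eq_of_le_of_card_ge (le_sup_left : D ≤ D ⊔ zpowers u) e.ge]; exact mem_sup_right (mem_zpowers u)
    have hdvd : d ∣ Nat.card P * 4 := by rw [← hcardC d0 hd0o, heq]; exact card_dvd_of_le le_sup_left
    rw [← heq, hcardC d0 hd0o] at hlt
    have hd2P : d = 2 * Nat.card P := by
      obtain ⟨k, hk⟩ := hdvd
      rcases k with _ | _ | _ | k
      · have := Nat.card_pos (α := (P : Subgroup G)); omega
      · omega
      · omega
      · nlinarith
    have hq3 : ¬ p ∣ q := by
      rw [hp3, ← hD, hd2P]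
      intro h
      have h3 : 3 ∣ Nat.card P := hp3 ▸ P.dvd_card_of_dvd_card c.dvd
      have h6 : 3 ∣ 2 * (2 * Nat.card P) := (h3.mul_left 2).mul_left 2
      exact (by norm_num : ¬ 3 ∣ 1) ((Nat.dvd_add_right h6).1 h)
    obtain ⟨x, hxQ, hx1⟩ : ∃ x ∈ Q', x ≠ 1 := by
      by_contra h; push Not at h; exact hQ'1 ((eq_bot_iff_forall _).2 h)
    have hd0N : (d0 : G) ∈ normalizer (Q' : Set G) := by rw [hNQ]; exact mem_sup_right d0.2
    have hcomm := c.commute_of_normalizes hq3 (g := (d0 : G))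
      (by rw [hd0o, hp3]; norm_num) hd0N x hxQ
    have hmem : (d0 : G) ∈ Q' := hQ' x hxQ hx1 ▸ mem_centralizer_singleton_iff.2 hcomm
    exact hd01 (mem_bot.1 (hQD ▸ ⟨hmem, d0.2⟩))
  · have hpow : ∀ r : ℕ, r.Prime → r ∣ d → r = 3 := by
      intro r hr hrd
      by_contra hr3
      have := Fact.mk hr
      obtain ⟨d1, hd1'⟩ := exists_prime_orderOf_dvd_card' (G := D) r hrd
      have hd1o : orderOf (d1 : G) = r := by rw [Subgroup.orderOf_coe, hd1']
      have hp_r : ¬ p ∣ r := by rw [hp3, Nat.prime_dvd_prime_iff_eq Nat.prime_three hr]; exact fun e => hr3 e.symm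
      have hn : u ∈ normalizer ((zpowers (d1 : G) : Subgroup G) : Set G) := by
        rw [mem_normalizer_iff_map_conj_eq, MonoidHom.map_zpowers]
        show zpowers (u * d1 * u⁻¹) = _
        rw [huinv d1 d1.2, zpowers_inv]
      have hcomm := c.commute_of_normalizes (B := zpowers (d1 : G)) (by rw [Nat.card_zpowers, hd1o]; exact hp_r)
        (g := u) (by rw [hu2, hp3]; norm_num) hn d1 (mem_zpowers _)
      have h := huinv d1 d1.2
      rw [hcomm, mul_inv_cancel_right] at h
      have h2 := orderOf_dvd_of_pow_eq_one (show (d1 : G) ^ 2 = 1 by rw [sq]; exact mul_eq_one_iff_eq_inv.2 h)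
      rw [hd1o, Nat.prime_dvd_prime_iff_eq hr Nat.prime_two] at h2
      exact h2d (h2 ▸ hrd)
    have hde : d = 3 ^ d.primeFactorsList.length :=
      Nat.eq_prime_pow_of_unique_prime_dvd hd0.ne' fun {r} hr hrd => hpow r hr hrd
    have h3d : 3 ∣ d := by
      obtain ⟨r, hr, hrd⟩ := Nat.exists_prime_and_dvd hd1
      exact hpow r hr hrd ▸ hrd
    subst hp3
    have hDp : IsPGroup 3 D := IsPGroup.of_card hde
    have hindD : ¬ 3 ∣ D.index := by
      intro h
      have h1 : d * D.index = q * (d * 2 * (d + 1)) := hgd ▸ D.card_mul_index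
      have h2 : D.index = q * (2 * (d + 1)) := Nat.eq_of_mul_eq_mul_left hd0 (by rw [h1]; ring)
      rw [h2, Nat.prime_three.dvd_mul, Nat.prime_three.dvd_mul] at h
      obtain ⟨k, hk⟩ := h3d
      rcases h with h | h | h <;> omega
    obtain ⟨g', hg'⟩ := MulAction.exists_smul_eq G P (hDp.toSylow hindD)
    have hPD : (P : Subgroup G).map (MulAut.conj g').toMonoidHom = D := by
      have := congrArg (fun R : Sylow 3 G => (R : Subgroup G)) hg'
      simp only [Sylow.coe_subgroup_smul, IsPGroup.toSylow_coe] at this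
      exact this
    have hcardN : Nat.card (normalizer (D : Set G)) = Nat.card P * 4 := by
      rw [← hPD, ← map_equiv_normalizer_eq, card_map_of_injective (MulAut.conj g').injective, ← hb, hN]
    have hdP : d = Nat.card P := by
      rw [show d = Nat.card D from rfl, ← hPD, card_map_of_injective (MulAut.conj g').injective]
    rw [hND] at hcardN
    omega

end Cfg

end Cfsg.Agent.H86.PPrime
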