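import Cfsg.Agent.H86.PPrime.Central
import Cfsg.Agent.H19.SchurZassenhaus

/-!
A group with a cyclic Sylow `p`-subgroup and abelian `p'`-subgroups has a normal `p`-complement or
a normal Sylow `p`-subgroup.
-/

namespace Cfsg.Agent.H86.PPrime

open Subgroup
open scoped Pointwise

universe u

variable {G : Type u} [Group G] [Finite G] {p : ℕ} [hp : Fact p.Prime]

theorem cyclic_sylow_quotient (hc : ∀ P : Sylow p G, IsCyclic P) (N : Subgroup G) [N.Normal]
    (Q : Sylow p (G ⧸ N)) : IsCyclic Q := by
  obtain ⟨S⟩ : Nonempty (Sylow p G) := inferInstance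
  have : IsCyclic (S : Subgroup G) := hc S
  have h1 : IsCyclic (S.mapSurjective (QuotientGroup.mk'_surjective N) : Subgroup (G ⧸ N)) := by
    rw [Sylow.coe_mapSurjective]
    exact isCyclic_of_surjective ((QuotientGroup.mk' N).subgroupMap (S : Subgroup G))
      ((QuotientGroup.mk' N).subgroupMap_surjective _)
  exact isCyclic_of_surjective (Sylow.equiv (S.mapSurjective (QuotientGroup.mk'_surjective N)) Q).toMonoidHom
    (Sylow.equiv (S.mapSurjective (QuotientGroup.mk'_surjective N)) Q).surjective

/-- The hypothesis passes to quotients. -/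
theorem AbPPrime.quotient (h : AbPPrime p G) (N : Subgroup G) [N.Normal]
    (hN : IsPGroup p N ∨ ¬ p ∣ Nat.card N) : AbPPrime p (G ⧸ N) := by
  intro U hU a ha b hb
  set φ := QuotientGroup.mk' N with hφ
  set L := U.comap φ with hL
  have hNL : N ≤ L := QuotientGroup.le_comap_mk' N U
  -- a `p'`-subgroup mapping onto `U`
  obtain ⟨K, hK, hKU⟩ : ∃ K : Subgroup G, ¬ p ∣ Nat.card K ∧ U ≤ K.map φ := by
    rcases hN with hN | hN
    · haveI : (N.subgroupOf L).Normal := inferInstance
      have hidx : (N.subgroupOf L).index = Nat.card U := by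
        have h1 := H19.card_comap_mk N U
        have h2 := (N.subgroupOf L).card_mul_index
        rw [Nat.card_congr (subgroupOfEquivOfLe hNL).toEquiv, hL, h1, mul_comm (Nat.card U)] at h2
        exact Nat.eq_of_mul_eq_mul_left Nat.card_pos h2
      obtain ⟨k, hk⟩ := hN.exists_card_eq
      have hco : (Nat.card (N.subgroupOf L)).Coprime (N.subgroupOf L).index := by
        rw [Nat.card_congr (subgroupOfEquivOfLe hNL).toEquiv, hk, hidx]
        exact (hp.out.coprime_iff_not_dvd.2 hU).pow_left k
      obtain ⟨K, hK⟩ := exists_right_complement'_of_coprime hco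
      refine ⟨K.map L.subtype, by rw [card_map_of_injective L.subtype_injective, ← hK.symm.index_eq_card, hidx]; exact hU, ?_⟩
      intro x hx
      obtain ⟨y, rfl⟩ := QuotientGroup.mk'_surjective N x
      obtain ⟨⟨⟨n, hn⟩, ⟨k', hk'⟩⟩, hnk⟩ := (isComplement_iff_existsUnique.1 hK ⟨y, hx⟩).exists
      refine ⟨(k' : G), mem_map_of_mem _ hk', ?_⟩
      have h1 : (n : G) * (k' : G) = y := congrArg Subtype.val hnk
      rw [← h1, map_mul, hφ, QuotientGroup.mk'_apply, QuotientGroup.mk'_apply, (QuotientGroup.eq_one_iff (n : G)).2 hn, one_mul]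
    · refine ⟨L, ?_, (map_comap_eq_self_of_surjective (QuotientGroup.mk'_surjective N) U).ge⟩
      rw [hL, hφ, H19.card_comap_mk]
      exact Nat.Prime.not_dvd_mul hp.out hU hN
  obtain ⟨x, hx, rfl⟩ := hKU ha
  obtain ⟨y, hy, rfl⟩ := hKU hb
  rw [← map_mul, h K hK x hx y hy, map_mul]

/-- The case of a normal `p`-subgroup. -/
theorem concl_of_normal_pgroup (hcyc : ∀ P : Sylow p G, IsCyclic P) (N : Subgroup G) [N.Normal] (hN : IsPGroup p N)
    (hN1 : N ≠ ⊥) (h : Concl p (G ⧸ N)) : Concl p G := by
  by_cases hnpc : Cfsg.HasNormalPComplement p G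
  · exact Or.inl hnpc
  right
  intro P
  have : IsCyclic (P : Subgroup G) := hcyc P
  have hNP : N ≤ P := by
    have h1 := P.3 (P.2.to_sup_of_normal_right hN) le_sup_left
    exact h1 ▸ le_sup_right
  have : IsCyclic N := isCyclic_of_le hNP
  set φ := QuotientGroup.mk' N with hφ
  have hsurj : Function.Surjective φ := QuotientGroup.mk'_surjective N
  rcases h with h | h
  · -- the preimage of the complement
    have := H22.pResidual_normal (p := p) (G := G ⧸ N)
    set R := Cfsg.pResidual p (G ⧸ N) with hR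
    set L := R.comap φ with hL
    haveI : L.Normal := inferInstance
    have hNL : N ≤ L := QuotientGroup.le_comap_mk' N R
    haveI : (N.subgroupOf L).Normal := inferInstance
    have hRp : ¬ p ∣ Nat.card R := H22.hasNormalPComplement_iff.1 h
    have hLc : Nat.card L = Nat.card R * Nat.card N := by rw [hL, hφ, H19.card_comap_mk]
    have hidx : (N.subgroupOf L).index = Nat.card R := by
      have h2 := (N.subgroupOf L).card_mul_index
      rw [Nat.card_congr (subgroupOfEquivOfLe hNL).toEquiv, hLc, mul_comm (Nat.card R)] at h2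
      exact Nat.eq_of_mul_eq_mul_left Nat.card_pos h2
    obtain ⟨k, hk⟩ := hN.exists_card_eq
    have hco : (Nat.card (N.subgroupOf L)).Coprime (N.subgroupOf L).index := by
      rw [Nat.card_congr (subgroupOfEquivOfLe hNL).toEquiv, hk, hidx]
      exact (hp.out.coprime_iff_not_dvd.2 hRp).pow_left k
    obtain ⟨K', hK'⟩ := exists_right_complement'_of_coprime hco
    set K := K'.map L.subtype with hK
    have hKc : Nat.card K = Nat.card R := by
      rw [hK, card_map_of_injective L.subtype_injective, ← hK'.symm.index_eq_card, hidx]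
    have hKp : ¬ p ∣ Nat.card K := hKc.symm ▸ hRp
    have hKL : K ≤ L := map_subtype_le _
    by_cases hcent : ∀ x ∈ K, ∀ n ∈ N, x * n = n * x
    · exfalso
      apply hnpc
      have hdec : ∀ y ∈ L, ∃ n ∈ N, ∃ x ∈ K, y = n * x := by
        intro y hy
        obtain ⟨⟨⟨n, hn⟩, ⟨x, hx⟩⟩, hnx⟩ := (isComplement_iff_existsUnique.1 hK' ⟨y, hy⟩).exists
        exact ⟨n, hn, x, mem_map_of_mem _ hx, (congrArg Subtype.val hnx).symm⟩
      haveI : K.Normal := by
        refine ⟨fun x hx g => ?_⟩
        obtain ⟨n, hn, x', hx', he⟩ := hdec _ ((inferInstance : L.Normal).conj_mem x (hKL hx) g)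
        have hn1 : n = 1 := by
          have hcomm : Commute n x' := (hcent x' hx' n hn).symm
          refine eq_one_of_mem_of_coprime hN hn fun hd => ?_
          have ho : ¬ p ∣ orderOf (g * x * g⁻¹) := by
            rw [show g * x * g⁻¹ = MulAut.conj g x from rfl, MulEquiv.orderOf_eq]
            exact not_dvd_card_iff.1 hKp x hx
          rw [he, hcomm.orderOf_mul_eq_mul_orderOf_of_coprime] at ho
          · exact ho (dvd_mul_of_dvd_left hd _)
          · exact (((hp.out.coprime_iff_not_dvd.2 (not_dvd_card_iff.1 hKp x' hx')).pow_left k).coprime_dvd_left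
              (hk ▸ N.orderOf_dvd_natCard hn))
        rw [he, hn1, one_mul]; exact hx'
      obtain ⟨j, hj⟩ := H22.exists_index_pResidual_eq (G := G ⧸ N) (p := p)
      refine npc_of_normal K hKp (k := j + k) ?_
      have h1 := K.card_mul_index
      have h2 := L.card_mul_index
      rw [index_comap_of_surjective _ hsurj, show R.index = p ^ j from hj, hLc, hk] at h2
      rw [hKc] at h1
      refine Nat.eq_of_mul_eq_mul_left (Nat.card_pos (α := R)) ?_
      rw [h1, ← h2, pow_add]; ring
    · push Not at hcent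
      obtain ⟨x₀, hx₀, n₀, hn₀, hne⟩ := hcent
      have hx₀p : ¬ p ∣ orderOf x₀ := not_dvd_card_iff.1 hKp x₀ hx₀
      have hx₀N : x₀ ∈ normalizer (N : Set G) := by rw [normalizer_eq_top_iff.2 inferInstance]; exact mem_top _
      have hfix : ∀ n ∈ N, x₀ * n = n * x₀ → n = 1 := fun n hn he => by
        by_contra h1
        exact hne (cyclic_fix hN hx₀p hx₀N hn h1 he n₀ hn₀)
      set P' := (P : Subgroup G) ⊓ normalizer (K : Set G) with hP'
      have hint : P' ⊓ N = ⊥ := by
        rw [eq_bot_iff_forall]
        rintro n ⟨⟨-, hnK⟩, hnN⟩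
        refine hfix n hnN ?_
        have h1 : n * x₀ * n⁻¹ * x₀⁻¹ ∈ N := by
          rw [mul_assoc, mul_assoc, ← mul_assoc x₀]
          exact mul_mem hnN ((inferInstance : N.Normal).conj_mem _ (inv_mem hnN) x₀)
        have h2 : n * x₀ * n⁻¹ * x₀⁻¹ ∈ K := mul_mem ((mem_normalizer_iff.1 hnK x₀).1 hx₀) (inv_mem hx₀)
        have := eq_one_of_mem_of_coprime hN h1 (not_dvd_card_iff.1 hKp _ h2)
        rw [mul_inv_eq_one, mul_inv_eq_iff_eq_mul] at this
        exact this.symm
      -- `P' = ⊥`
      have hP'bot : P' = ⊥ := by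
        by_contra hbot
        obtain ⟨a, ha⟩ := exists_prime_orderOf_dvd_card' (G := P') p
          (((P.2.to_le inf_le_left).card_eq_or_dvd).resolve_left fun e => hbot (eq_bot_of_card_eq _ e))
        obtain ⟨b, hb⟩ := exists_prime_orderOf_dvd_card' (G := N) p
          ((hN.card_eq_or_dvd).resolve_left fun e => hN1 (eq_bot_of_card_eq _ e))
        have heq : zpowers (⟨(a : G), a.2.1⟩ : (P : Subgroup G)) = zpowers (⟨(b : G), hNP b.2⟩ : (P : Subgroup G)) :=
          eq_of_card_eq_of_cyclic (by
            rw [Nat.card_zpowers, Nat.card_zpowers, Subgroup.orderOf_mk, Subgroup.orderOf_mk, Subgroup.orderOf_coe,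
              Subgroup.orderOf_coe, ha, hb])
        obtain ⟨i, hi⟩ := (heq ▸ mem_zpowers _ : (⟨(a : G), a.2.1⟩ : (P : Subgroup G)) ∈ zpowers ⟨(b : G), hNP b.2⟩)
        have haN : (a : G) ∈ N := by
          rw [← show (b : G) ^ i = a from congrArg Subtype.val hi]; exact zpow_mem b.2 i
        have : (a : G) = 1 := mem_bot.1 (hint ▸ ⟨a.2, haN⟩)
        rw [← Subgroup.orderOf_coe, this, orderOf_one] at ha
        exact hp.out.ne_one ha.symm
      have hPN : (P : Subgroup G) = N := by
        refine le_antisymm (fun y hy => ?_) hNP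
        -- conjugate complement
        let α : MulAut L := MulAut.conjNormal y
        have hmapN : (N.subgroupOf L).map α.toMonoidHom = N.subgroupOf L := by
          refine eq_of_le_of_card_ge ?_ (card_map_of_injective α.injective).ge
          rintro _ ⟨w, hw, rfl⟩
          exact (inferInstance : N.Normal).conj_mem _ hw y
        have : IsMulCommutative (N.subgroupOf L) := ⟨⟨fun a b => Subtype.ext (Subtype.ext
          (congrArg Subtype.val ((IsCyclic.isMulCommutative (α := N)).is_comm.comm ⟨_, a.2⟩ ⟨_, b.2⟩) :))⟩⟩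
        have hK'' : IsComplement' (N.subgroupOf L) (K'.map α.toMonoidHom) := by
          refine isComplement'_of_coprime ?_ ?_
          · rw [card_map_of_injective (f := α.toMonoidHom) α.injective, hK'.card_mul]
          · rw [card_map_of_injective (f := α.toMonoidHom) α.injective, ← hK'.symm.index_eq_card]
            exact hco
        obtain ⟨n, hn, hconj⟩ := H19.sz_conj_abelian (N.subgroupOf L) hco hK' hK''
        have hnN : (n : G) ∈ N := hn
        have hmem : (n : G)⁻¹ * y ∈ normalizer (K : Set G) := by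
          rw [mem_normalizer_iff_map_conj_eq]
          refine eq_of_le_of_card_ge ?_ (card_map_of_injective (MulAut.conj _).injective).ge
          rintro _ ⟨_, ⟨w, hw, rfl⟩, rfl⟩
          have h1 : α w ∈ K'.map α.toMonoidHom := mem_map_of_mem _ hw
          rw [← hconj] at h1
          obtain ⟨w', hw', hw''⟩ := h1
          refine ⟨w', hw', ?_⟩
          have h2 : (n : G) * (w' : G) * (n : G)⁻¹ = y * (w : G) * y⁻¹ := congrArg Subtype.val hw''
          show (w' : G) = (n : G)⁻¹ * y * (w : G) * ((n : G)⁻¹ * y)⁻¹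
          calc (w' : G) = (n : G)⁻¹ * ((n : G) * (w' : G) * (n : G)⁻¹) * n := by group
            _ = _ := by rw [h2]; group
        have hmP : (n : G)⁻¹ * y ∈ (P : Subgroup G) := mul_mem (inv_mem (hNP hnN)) hy
        have : (n : G)⁻¹ * y ∈ P' := ⟨hmP, hmem⟩
        rw [hP'bot, mem_bot, inv_mul_eq_one] at this
        exact this ▸ hnN
      rw [hPN]; infer_instance
  · have hn := h (P.mapSurjective hsurj)
    rw [Sylow.coe_mapSurjective] at hn
    have h2 := hn.comap φ
    rwa [comap_map_eq, hφ, QuotientGroup.ker_mk', sup_eq_left.2 hNP] at h2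

/-- The case of a normal subgroup of order prime to `p`. -/
theorem concl_of_normal_pprime (hcyc : ∀ P : Sylow p G, IsCyclic P) (hab : AbPPrime p G) (N : Subgroup G) [N.Normal]
    (hN : ¬ p ∣ Nat.card N) (h : Concl p (G ⧸ N)) : Concl p G := by
  by_cases hnpc : Cfsg.HasNormalPComplement p G
  · exact Or.inl hnpc
  right
  intro P
  have : IsCyclic (P : Subgroup G) := hcyc P
  set φ := QuotientGroup.mk' N with hφ
  have hsurj : Function.Surjective φ := QuotientGroup.mk'_surjective N
  rcases h with h | h
  · exact absurd (H23.hasNormalPComplement_of_quotient N hN h) hnpc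
  haveI hMn : ((P : Subgroup G) ⊔ N).Normal := by
    have hn := h (P.mapSurjective hsurj)
    rw [Sylow.coe_mapSurjective] at hn
    have h2 := hn.comap φ
    rwa [comap_map_eq, hφ, QuotientGroup.ker_mk'] at h2
  set NP := normalizer ((P : Subgroup G) : Set G) with hNP
  have htop : NP ⊔ N = ⊤ := by
    have h1 : NP ⊔ ((P : Subgroup G) ⊔ N) = ⊤ := P.normalizer_sup_eq_top' (N := (P : Subgroup G) ⊔ N) le_sup_left
    rwa [← sup_assoc, sup_eq_left.2 le_normalizer] at h1
  by_cases hcent : ∀ x ∈ (P : Subgroup G), ∀ n ∈ N, x * n = n * x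
  · have hNle : N ≤ NP := by
      intro n hn
      rw [hNP, mem_normalizer_iff_map_conj_eq]
      refine eq_of_le_of_card_ge ?_ (card_map_of_injective (MulAut.conj n).injective).ge
      rintro _ ⟨x, hx, rfl⟩
      show n * x * n⁻¹ ∈ _
      rw [← hcent x hx n hn, mul_inv_cancel_right]; exact hx
    rw [← normalizer_eq_top_iff, ← htop, sup_eq_left.2 hNle]
  exfalso
  have hPNP : (P : Subgroup G) ≤ NP := le_normalizer
  haveI : ((P : Subgroup G).subgroupOf NP).Normal := normal_in_normalizer
  have hidxp : ¬ p ∣ ((P : Subgroup G).subgroupOf NP).index := fun h =>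
    P.not_dvd_index (h.trans (relIndex_dvd_index_of_le hPNP))
  obtain ⟨k, hk⟩ := P.2.exists_card_eq
  have hco : (Nat.card ((P : Subgroup G).subgroupOf NP)).Coprime ((P : Subgroup G).subgroupOf NP).index := by
    rw [Nat.card_congr (subgroupOfEquivOfLe hPNP).toEquiv, hk]
    exact (hp.out.coprime_iff_not_dvd.2 hidxp).pow_left k
  obtain ⟨E', hE'⟩ := exists_right_complement'_of_coprime hco
  set E := E'.map NP.subtype with hE
  have hEp : ¬ p ∣ Nat.card E := by
    rw [hE, card_map_of_injective NP.subtype_injective, ← hE'.symm.index_eq_card]; exact hidxp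
  set K := N ⊔ E with hK
  have hKp : ¬ p ∣ Nat.card K := fun hd =>
    (hp.out.dvd_mul.1 (hd.trans (H19.card_sup_dvd N E))).elim hN hEp
  have hKab := hab K hKp
  have hEN : ∀ e ∈ E, ∀ n ∈ N, e * n = n * e := fun e he n hn => hKab e (mem_sup_right he) n (mem_sup_left hn)
  have hEP : ∀ e ∈ E, ∀ x ∈ (P : Subgroup G), e * x = x * e := by
    intro e he
    by_contra hne
    apply hcent
    intro x hx n hn
    have heN : e ∈ NP := map_subtype_le _ he
    obtain ⟨v, hv, rfl⟩ := exists_commutator_eq P.2 (not_dvd_card_iff.1 hEp e he) heN hne hx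
    have h1 : e ∈ centralizer (N : Set G) := mem_centralizer_iff.2 fun n hn => (hEN e he n hn).symm
    have h2 : e * v * e⁻¹ * v⁻¹ ∈ centralizer (N : Set G) := by
      rw [mul_assoc, mul_assoc, ← mul_assoc v]
      exact mul_mem h1 ((inferInstance : (centralizer (N : Set G)).Normal).conj_mem _ (inv_mem h1) v)
    exact (mem_centralizer_iff.1 h2 n hn).symm
  have hdecN : NP ≤ (P : Subgroup G) ⊔ E := by
    intro y hy
    obtain ⟨⟨⟨a, ha⟩, ⟨b, hb⟩⟩, hab'⟩ := (isComplement_iff_existsUnique.1 hE' ⟨y, hy⟩).exists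
    rw [← show (a : G) * (b : G) = y from congrArg Subtype.val hab']
    exact mul_mem (mem_sup_left ha) (mem_sup_right (mem_map_of_mem _ hb))
  have htopK : K ⊔ (P : Subgroup G) = ⊤ := by
    rw [eq_top_iff, ← htop]
    refine sup_le (hdecN.trans (sup_le le_sup_right (le_sup_right.trans le_sup_left))) (le_sup_left.trans le_sup_left)
  haveI : K.Normal := by
    rw [← normalizer_eq_top_iff, eq_top_iff, ← htopK]
    refine sup_le le_normalizer fun x hx => ?_
    rw [mem_normalizer_iff_map_conj_eq]
    refine eq_of_le_of_card_ge ?_ (card_map_of_injective (MulAut.conj x).injective).ge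
    rw [hK, Subgroup.map_sup]
    refine sup_le ((map_conj_normal N x).le.trans le_sup_left) ?_
    rintro _ ⟨e, he, rfl⟩
    show x * e * x⁻¹ ∈ _
    rw [← hEP e he x hx, mul_inv_cancel_right]; exact mem_sup_right he
  apply hnpc
  refine H22.hasNormalPComplement_of_normal K hKp ?_
  have hsur : Function.Surjective ((QuotientGroup.mk' K).comp (P : Subgroup G).subtype) := by
    intro z
    obtain ⟨y, rfl⟩ := QuotientGroup.mk'_surjective K z
    have : y ∈ ((K ⊔ (P : Subgroup G) : Subgroup G) : Set G) := by rw [htopK]; trivial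
    rw [normal_mul] at this
    obtain ⟨a, ha, b, hb, rfl⟩ := this
    refine ⟨⟨b, hb⟩, ?_⟩
    show QuotientGroup.mk' K b = QuotientGroup.mk' K (a * b)
    rw [map_mul, show QuotientGroup.mk' K a = 1 from (QuotientGroup.eq_one_iff a).2 ha, one_mul]
  exact P.2.of_surjective _ hsur

theorem concl_aux (n : ℕ) : ∀ (G : Type u) [Group G] [Finite G], Nat.card G = n →
    (∀ P : Sylow p G, IsCyclic P) → AbPPrime p G → Concl p G := by
  induction n using Nat.strong_induction_on with
  | _ n ih =>
  intro G _ _ hn hcyc hab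
  have hsub : ∀ L : Subgroup G, L ≠ ⊤ → Concl p L := by
    intro L hL
    refine ih _ ?_ L rfl (cyclic_subgroup_sylow hcyc L) (hab.subgroup L)
    rw [← hn]
    exact lt_of_le_of_ne L.card_le_card_group fun e => hL (eq_top_of_card_eq L e)
  by_cases hnpc : Cfsg.HasNormalPComplement p G
  · exact Or.inl hnpc
  by_cases hns : ∃ N : Subgroup G, N.Normal ∧ N ≠ ⊥ ∧ N ≠ ⊤
  · obtain ⟨N, ⟨hNn, hN1, hNt⟩, hmin⟩ := wellFounded_lt.has_min {N : Subgroup G | N.Normal ∧ N ≠ ⊥ ∧ N ≠ ⊤} hns
    have hmin' : ∀ M : Subgroup G, M.Normal → M ≤ N → M = ⊥ ∨ M = N := fun M hM hle => by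
      by_contra h
      push Not at h
      exact hmin M ⟨hM, h.1, fun e => hNt (top_le_iff.1 (e ▸ hle))⟩ (lt_of_le_of_ne hle h.2)
    have hNk : IsPGroup p N ∨ ¬ p ∣ Nat.card N := by
      rcases hsub N hNt with h | h
      · haveI := H22.pResidual_characteristic (p := p) (G := N)
        rcases hmin' ((Cfsg.pResidual p N).map N.subtype) ConjAct.normal_of_characteristic_of_normal (map_subtype_le _) with e | e
        · left
          obtain ⟨k, hk⟩ := H22.exists_index_pResidual_eq (G := N) (p := p)
          rw [(map_eq_bot_iff_of_injective _ N.subtype_injective).1 e, index_bot] at hk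
          exact IsPGroup.of_card hk
        · right
          have := H22.hasNormalPComplement_iff.1 h
          rwa [← card_map_of_injective (K := Cfsg.pResidual p N) N.subtype_injective, e] at this
      · obtain ⟨Q⟩ : Nonempty (Sylow p N) := inferInstance
        haveI := Q.characteristic_of_normal (h Q)
        rcases hmin' ((Q : Subgroup N).map N.subtype) ConjAct.normal_of_characteristic_of_normal (map_subtype_le _) with e | e
        · right
          intro hd
          exact Q.ne_bot_of_dvd_card hd ((map_eq_bot_iff_of_injective _ N.subtype_injective).1 e)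
        · left
          rw [← e]; exact Q.2.map _
    have hq : Concl p (G ⧸ N) := by
      refine ih _ ?_ (G ⧸ N) rfl (cyclic_sylow_quotient hcyc N) (hab.quotient N hNk)
      rw [← index_eq_card, ← hn, ← N.card_mul_index]
      exact lt_mul_of_one_lt_left (Nat.pos_of_ne_zero N.index_ne_zero_of_finite) (N.one_lt_card_iff_ne_bot.2 hN1)
    rcases hNk with h | h
    · exact concl_of_normal_pgroup hcyc N h hN1 hq
    · exact concl_of_normal_pprime hcyc hab N h hq
  -- simple
  push Not at hns
  by_cases hdvd : p ∣ Nat.card G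
  swap
  · exact absurd (H22.hasNormalPComplement_of_not_dvd hdvd) hnpc
  by_cases hcomm : ∀ x y : G, x * y = y * x
  · right
    intro P
    exact ⟨fun x hx g => by rw [hcomm g x, mul_inv_cancel_right]; exact hx⟩
  push Not at hcomm
  exfalso
  have hnt : Nontrivial G := by
    obtain ⟨x, y, hxy⟩ := hcomm
    exact ⟨x * y, y * x, hxy⟩
  have hsimple : IsSimpleGroup G := ⟨fun N hN => or_iff_not_imp_left.2 fun h1 => hns N hN h1⟩
  have hp2 : p ≠ 2 := by
    intro h2
    apply hnpc
    obtain ⟨P⟩ : Nonempty (Sylow p G) := inferInstance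
    have : IsCyclic (P : Subgroup G) := hcyc P
    refine H22.burnside_normal_complement P
      (IsCyclic.normalizer_le_centralizer ?_ inferInstance)
    refine le_antisymm (h2 ▸ ?_) (Nat.minFac_le_of_dvd hp.out.two_le hdvd) |>.symm
    exact (Nat.minFac_prime Finite.one_lt_card.ne').two_le
  have c : Cfg p G := ⟨hsimple, hcomm, hcyc, hab, hsub, hdvd, hp2⟩
  by_cases hE0 : ∀ (P : Sylow p G) (y : G), ¬ p ∣ orderOf y → (∀ v ∈ (P : Subgroup G), y * v = v * y) → y = 1
  · exact c.false_of_CA hE0
  push Not at hE0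
  obtain ⟨P, y, hy, hyP, hy1⟩ := hE0
  exact c.false_of_central P hy hy1 hyP

theorem concl (hcyc : ∀ P : Sylow p G, IsCyclic P) (hab : AbPPrime p G) : Concl p G :=
  concl_aux _ G rfl hcyc hab

end Cfsg.Agent.H86.PPrime
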