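import Cfsg.Agent.H86.PPrime.Basic
import Cfsg.Agent.H77.BSW.Group
import Cfsg.Agent.S0182
import Cfsg.Agent.S3282

/-!
No nonabelian simple group has a cyclic Sylow `p`-subgroup and only abelian `p'`-subgroups.
-/

namespace Cfsg.Agent.H86.PPrime

open Subgroup
open scoped Pointwise

variable {G : Type*} [Group G] [Finite G] {p : ℕ} [hp : Fact p.Prime]

/-- The configuration of a minimal counterexample. -/
structure Cfg (p : ℕ) (G : Type*) [Group G] : Prop where
  simple : IsSimpleGroup G
  nonab : ∃ x y : G, x * y ≠ y * x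
  cyc : ∀ P : Sylow p G, IsCyclic P
  ab : AbPPrime p G
  loc : ∀ L : Subgroup G, L ≠ ⊤ → Concl p L
  dvd : p ∣ Nat.card G
  odd : p ≠ 2

namespace Cfg

variable (c : Cfg p G)
include c

omit [Finite G] hp in
theorem center_eq_bot : center G = ⊥ := by
  have := c.simple
  refine ((inferInstance : (center G).Normal).eq_bot_or_eq_top).resolve_right fun h => ?_
  obtain ⟨x, y, hxy⟩ := c.nonab
  exact hxy (mem_center_iff.1 (h ▸ mem_top y : y ∈ center G) x)

omit [Finite G] hp in
theorem normalizer_ne_top {U : Subgroup G} (hU : U ≠ ⊥) (hU' : U ≠ ⊤) :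
    normalizer (U : Set G) ≠ ⊤ := by
  intro h
  have := c.simple
  rcases (normalizer_eq_top_iff.1 h).eq_bot_or_eq_top with e | e
  exacts [hU e, hU' e]

omit [Finite G] hp in
theorem centralizer_ne_top {x : G} (hx : x ≠ 1) : centralizer ({x} : Set G) ≠ ⊤ := by
  intro h
  apply hx
  rw [← mem_bot, ← c.center_eq_bot, mem_center_iff]
  exact fun g => mem_centralizer_singleton_iff.1 (h ▸ mem_top g)

omit [Finite G] hp in
theorem not_commute_all {U : Subgroup G} (hU : ∀ a ∈ U, ∀ b ∈ U, a * b = b * a) : U ≠ ⊤ := by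
  rintro rfl
  obtain ⟨x, y, hxy⟩ := c.nonab
  exact hxy (hU x (mem_top x) y (mem_top y))

theorem not_npc : ¬ Cfsg.HasNormalPComplement p G :=
  haveI := c.simple
  H22.not_hasNormalPComplement_of_simple c.nonab c.dvd

omit [Finite G] hp in
theorem sylow_comm (P : Sylow p G) : ∀ a ∈ (P : Subgroup G), ∀ b ∈ (P : Subgroup G), a * b = b * a :=
  fun a ha b hb =>
    have : IsCyclic (P : Subgroup G) := c.cyc P
    congrArg Subtype.val ((IsCyclic.isMulCommutative (α := (P : Subgroup G))).is_comm.comm ⟨a, ha⟩ ⟨b, hb⟩)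

/-- In a proper subgroup with a normal Sylow subgroup or normal complement: elements normalizing. -/
theorem loc_sylow {L : Subgroup G} (hL : L ≠ ⊤) (P : Sylow p G) (hPL : (P : Subgroup G) ≤ L)
    {e : G} (heL : e ∈ L) (he : ¬ p ∣ orderOf e) (heN : e ∈ normalizer ((P : Subgroup G) : Set G))
    (hne : ¬ ∀ v ∈ (P : Subgroup G), e * v = v * e) : L ≤ normalizer ((P : Subgroup G) : Set G) := by
  rcases c.loc L hL with h | h
  · exfalso
    obtain ⟨K, -, hLK, hK, hmem⟩ := exists_complement_of_npc h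
    have heK := hmem e heL he
    refine hne fun v hv => ?_
    have h1 : e * v * e⁻¹ * v⁻¹ ∈ (P : Subgroup G) := mul_mem ((mem_normalizer_iff.1 heN v).1 hv) (inv_mem hv)
    have h2 : e * v * e⁻¹ * v⁻¹ ∈ K := by
      rw [mul_assoc, mul_assoc, ← mul_assoc v]
      exact mul_mem heK ((mem_normalizer_iff.1 (hLK (hPL hv)) e⁻¹).1 (inv_mem heK))
    have := eq_one_of_mem_of_coprime P.2 h1 (not_dvd_card_iff.1 hK _ h2)
    rwa [mul_inv_eq_one, mul_inv_eq_iff_eq_mul] at this
  · exact (normal_subgroupOf_iff_le_normalizer hPL).1 (by rw [← Sylow.coe_subtype (h := hPL)]; exact h _)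

/-- Some element of order prime to `p` acts nontrivially on `P`. -/
theorem exists_moving (P : Sylow p G) : ∃ e ∈ normalizer ((P : Subgroup G) : Set G),
    ¬ p ∣ orderOf e ∧ ¬ ∀ v ∈ (P : Subgroup G), e * v = v * e := by
  by_contra h
  push Not at h
  refine c.not_npc (H22.burnside_normal_complement P fun g hg => ?_)
  -- split into the `p`-part and the rest
  obtain ⟨a, b, hab, -, ⟨k, hk⟩, hb, hag, hbg⟩ := split (p := p) g
  have hN : zpowers g ≤ normalizer ((P : Subgroup G) : Set G) := zpowers_le.2 hg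
  have haP : a ∈ (P : Subgroup G) := by
    have hpg : IsPGroup p (zpowers a) := by
      obtain ⟨i, -, hi⟩ := (Nat.dvd_prime_pow hp.out).1 (orderOf_dvd_of_pow_eq_one hk)
      exact IsPGroup.of_card ((Nat.card_zpowers a).trans hi)
    have := P.3 (hpg.to_sup_of_normal_right' P.2 (zpowers_le.2 (hN hag))) le_sup_right
    exact this ▸ mem_sup_left (mem_zpowers a)
  rw [mem_centralizer_iff]
  intro v hv
  rw [hab, ← mul_assoc, c.sylow_comm P v hv a haP, mul_assoc, ← h b (hN hbg) hb v hv, ← mul_assoc]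

/-- Centralizers of nontrivial elements of `P` normalize `P`. -/
theorem centralizer_le (P : Sylow p G) {w : G} (hw : w ∈ (P : Subgroup G)) (hw1 : w ≠ 1) :
    centralizer ({w} : Set G) ≤ normalizer ((P : Subgroup G) : Set G) := by
  have : IsCyclic (P : Subgroup G) := c.cyc P
  set L := normalizer ((zpowers w : Subgroup G) : Set G)
  have hL : L ≠ ⊤ := c.normalizer_ne_top (zpowers_ne_bot.2 hw1)
    (c.not_commute_all fun a ha b hb => c.sylow_comm P a (zpowers_le.2 hw ha) b (zpowers_le.2 hw hb))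
  have hNL : normalizer ((P : Subgroup G) : Set G) ≤ L := by
    intro g hg
    rw [mem_normalizer_iff_map_conj_eq]
    have h1 : (zpowers w).map (MulAut.conj g).toMonoidHom ≤ (P : Subgroup G) := by
      rintro _ ⟨z, hz, rfl⟩
      exact (mem_normalizer_iff.1 hg z).1 (zpowers_le.2 hw hz)
    have h2 : ((zpowers w).map (MulAut.conj g).toMonoidHom).subgroupOf (P : Subgroup G) = (zpowers w).subgroupOf (P : Subgroup G) :=
      eq_of_card_eq_of_cyclic (by
        rw [Nat.card_congr (subgroupOfEquivOfLe h1).toEquiv, Nat.card_congr (subgroupOfEquivOfLe (zpowers_le.2 hw)).toEquiv,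
          card_map_of_injective (MulAut.conj g).injective])
    have h3 := congrArg (Subgroup.map (P : Subgroup G).subtype) h2
    rw [map_subgroupOf_eq_of_le h1, map_subgroupOf_eq_of_le (zpowers_le.2 hw)] at h3
    exact h3
  obtain ⟨e, heN, he, hne⟩ := c.exists_moving P
  refine le_trans ?_ (c.loc_sylow hL P (le_normalizer.trans hNL) (hNL heN) he heN hne)
  intro g hg
  rw [mem_normalizer_iff_map_conj_eq, MonoidHom.map_zpowers]
  congr 1
  show g * w * g⁻¹ = w
  rw [mem_centralizer_singleton_iff.1 hg, mul_inv_cancel_right]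

theorem normal_sylow_eq {P Q : Sylow p G} (h : (Q : Subgroup G) ≤ normalizer ((P : Subgroup G) : Set G)) :
    (Q : Subgroup G) = P := by
  have h1 := P.3 (Q.2.to_sup_of_normal_right' P.2 h) le_sup_right
  have h2 := Q.3 (Q.2.to_sup_of_normal_right' P.2 h) le_sup_left
  exact h2.symm.trans h1

theorem mem_sylow_of_normalizes (P : Sylow p G) {g : G} (hg : g ∈ normalizer ((P : Subgroup G) : Set G))
    {k : ℕ} (hk : g ^ p ^ k = 1) : g ∈ (P : Subgroup G) := by
  obtain ⟨i, -, hi⟩ := (Nat.dvd_prime_pow hp.out).1 (orderOf_dvd_of_pow_eq_one hk)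
  have hpg : IsPGroup p (zpowers g) := IsPGroup.of_card ((Nat.card_zpowers g).trans hi)
  exact P.3 (hpg.to_sup_of_normal_right' P.2 (zpowers_le.2 hg)) le_sup_right ▸ mem_sup_left (mem_zpowers g)

theorem centralizes_of_commute (P : Sylow p G) {w y : G} (hw : w ∈ (P : Subgroup G)) (hw1 : w ≠ 1)
    (hy : ¬ p ∣ orderOf y) (hyw : y * w = w * y) : ∀ v ∈ (P : Subgroup G), y * v = v * y :=
  have : IsCyclic (P : Subgroup G) := c.cyc P
  cyclic_fix P.2 hy (c.centralizer_le P hw hw1 (mem_centralizer_singleton_iff.2 hyw)) hw hw1 hyw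

/-- The centralizer of a `p'`-element centralizing `P` is `N(P)`. -/
theorem centralizer_eq (P : Sylow p G) {y : G} (hy : ¬ p ∣ orderOf y) (hy1 : y ≠ 1)
    (hyP : ∀ v ∈ (P : Subgroup G), y * v = v * y) :
    centralizer ({y} : Set G) = normalizer ((P : Subgroup G) : Set G) := by
  have hPC : (P : Subgroup G) ≤ centralizer ({y} : Set G) := fun v hv =>
    mem_centralizer_singleton_iff.2 (hyP v hv).symm
  have hPN : (P : Subgroup G) ≤ normalizer ((P : Subgroup G) : Set G) := le_normalizer
  have hyN : y ∈ normalizer ((P : Subgroup G) : Set G) := by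
    rw [mem_normalizer_iff_map_conj_eq]
    refine eq_of_le_of_card_ge ?_ (card_map_of_injective (MulAut.conj y).injective).ge
    rintro _ ⟨v, hv, rfl⟩
    show y * v * y⁻¹ ∈ _
    rw [hyP v hv, mul_inv_cancel_right]; exact hv
  -- the complement
  set N := normalizer ((P : Subgroup G) : Set G) with hN
  haveI : ((P : Subgroup G).subgroupOf N).Normal := normal_in_normalizer
  have hPN' : Nat.card ((P : Subgroup G).subgroupOf N) = Nat.card P :=
    Nat.card_congr (subgroupOfEquivOfLe hPN).toEquiv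
  have hco : (Nat.card ((P : Subgroup G).subgroupOf N)).Coprime ((P : Subgroup G).subgroupOf N).index := by
    rw [hPN']
    obtain ⟨k, hk⟩ := P.2.exists_card_eq
    rw [hk]
    refine (hp.out.coprime_iff_not_dvd.2 fun h => P.not_dvd_index ?_).pow_left k
    exact h.trans (relIndex_dvd_index_of_le hPN)
  -- `N` centralizes `y`
  have hNC : N ≤ centralizer ({y} : Set G) := by
    obtain ⟨E, hE⟩ := exists_right_complement'_of_coprime hco
    have hEc : ¬ p ∣ Nat.card E := by
      rw [← hE.symm.index_eq_card]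
      intro h; exact P.not_dvd_index (h.trans (relIndex_dvd_index_of_le hPN))
    obtain ⟨⟨⟨v, hv⟩, ⟨u, hu⟩⟩, hvu⟩ := (isComplement_iff_existsUnique.1 hE ⟨y, hyN⟩).exists
    have hvu' : (v : G) * (u : G) = y := congrArg Subtype.val hvu
    have hvP : (v : G) ∈ (P : Subgroup G) := hv
    have hu_p : ¬ p ∣ orderOf (u : G) := by
      rw [Subgroup.orderOf_coe]; exact not_dvd_card_iff.1 hEc u hu
    have hcomm : Commute (v : G) y := (hyP v hvP).symm
    have hv1 : (v : G) = 1 := by
      refine eq_one_of_mem_of_coprime P.2 hvP fun hd => ?_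
      have hu' : (u : G) = (v : G)⁻¹ * y := by rw [← hvu', inv_mul_cancel_left]
      rw [hu', (hcomm.inv_left).orderOf_mul_eq_mul_orderOf_of_coprime ?_, orderOf_inv] at hu_p
      · exact hu_p (dvd_mul_of_dvd_left hd _)
      · rw [orderOf_inv]
        obtain ⟨k, hk⟩ := P.2.exists_card_eq
        exact Nat.Coprime.coprime_dvd_left (hk ▸ (P : Subgroup G).orderOf_dvd_natCard hvP)
          ((hp.out.coprime_iff_not_dvd.2 hy).pow_left k)
    intro n hn
    obtain ⟨⟨⟨v', hv'⟩, ⟨u', hu'⟩⟩, hvu''⟩ := (isComplement_iff_existsUnique.1 hE ⟨n, hn⟩).exists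
    have : (v' : G) * (u' : G) = n := congrArg Subtype.val hvu''
    rw [← this]
    refine mul_mem (hPC hv') (mem_centralizer_singleton_iff.2 ?_)
    have hab := c.ab.subgroup N E hEc u' hu' u hu
    have hyu : y = u := by rw [← hvu', hv1, one_mul]
    rw [hyu]
    exact congrArg Subtype.val hab
  refine le_antisymm ?_ hNC
  obtain ⟨e, heN, he, hne⟩ := c.exists_moving P
  exact c.loc_sylow (c.centralizer_ne_top hy1) P hPC (hNC heN) he heN hne

/-! ### No `p'`-element centralizes a Sylow `p`-subgroup -/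

section CA

variable (hE0 : ∀ (P : Sylow p G) (y : G), ¬ p ∣ orderOf y → (∀ v ∈ (P : Subgroup G), y * v = v * y) → y = 1)
include hE0

theorem centralizer_sylow_elem (P : Sylow p G) {w : G} (hw : w ∈ (P : Subgroup G)) (hw1 : w ≠ 1) :
    centralizer ({w} : Set G) = P := by
  refine le_antisymm (fun g hg => ?_) fun v hv => mem_centralizer_singleton_iff.2 (c.sylow_comm P v hv w hw)
  have hgN := c.centralizer_le P hw hw1 hg
  obtain ⟨k, hk⟩ := P.2.exists_card_eq
  -- `g ^ |P|` has order prime to `p`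
  obtain ⟨a, b, hab, -, ⟨i, hi⟩, hb, haz, hbz⟩ := split (p := p) g
  have hcg : zpowers g ≤ centralizer ({w} : Set G) := zpowers_le.2 hg
  have hb1 : b = 1 := hE0 P b hb (c.centralizes_of_commute P hw hw1 hb (mem_centralizer_singleton_iff.1 (hcg hbz)))
  rw [hab, hb1, mul_one]
  exact c.mem_sylow_of_normalizes P ((c.centralizer_le P hw hw1) (hcg haz)) hi

theorem exists_sylow_of_dvd {x : G} (hx : p ∣ orderOf x) :
    ∃ P : Sylow p G, x ∈ (P : Subgroup G) ∧ centralizer ({x} : Set G) = P := by
  have hne : x ≠ 1 := by rintro rfl; rw [orderOf_one, Nat.dvd_one] at hx; exact hp.out.ne_one hx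
  obtain ⟨m, hm⟩ := hx
  have hm0 : m ≠ 0 := by rintro rfl; simp [(orderOf_pos x).ne'] at hm
  have hw : orderOf (x ^ m) = p := by
    rw [orderOf_pow' x hm0, hm, Nat.gcd_mul_left_left, Nat.mul_div_cancel _ (Nat.pos_of_ne_zero hm0)]
  have hwp : IsPGroup p (zpowers (x ^ m)) := IsPGroup.of_card (n := 1) (by rw [Nat.card_zpowers, hw, pow_one])
  obtain ⟨P, hP⟩ := hwp.exists_le_sylow
  have hwP := hP (mem_zpowers _)
  have hw1 : x ^ m ≠ 1 := fun h => by rw [h, orderOf_one] at hw; exact hp.out.ne_one hw.symm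
  have hxP : x ∈ (P : Subgroup G) := by
    rw [← c.centralizer_sylow_elem hE0 P hwP hw1, mem_centralizer_singleton_iff]
    exact ((Commute.refl x).pow_right m).eq
  exact ⟨P, hxP, c.centralizer_sylow_elem hE0 P hxP hne⟩

theorem not_dvd_centralizer {y : G} (hy : ¬ p ∣ orderOf y) (hy1 : y ≠ 1) :
    ¬ p ∣ Nat.card (centralizer ({y} : Set G)) := by
  rw [not_dvd_card_iff]
  intro x hx hd
  obtain ⟨P, hxP, hC⟩ := c.exists_sylow_of_dvd hE0 hd
  have hyP : y ∈ (P : Subgroup G) := by
    rw [← hC, mem_centralizer_singleton_iff]; exact (mem_centralizer_singleton_iff.1 hx).symm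
  exact hy1 (eq_one_of_mem_of_coprime P.2 hyP hy)

theorem centralizer_comm {x : G} (hx : x ≠ 1) :
    ∀ a ∈ centralizer ({x} : Set G), ∀ b ∈ centralizer ({x} : Set G), a * b = b * a := by
  by_cases hd : p ∣ orderOf x
  · obtain ⟨P, -, hC⟩ := c.exists_sylow_of_dvd hE0 hd
    rw [hC]; exact c.sylow_comm P
  · exact c.ab _ (c.not_dvd_centralizer hE0 hd hx)

theorem centralizer_eq_of_mem {t a : G} (ht : t ≠ 1) (ha : a ∈ centralizer ({t} : Set G)) (ha1 : a ≠ 1) :
    centralizer ({a} : Set G) = centralizer ({t} : Set G) := by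
  have key : ∀ u v : G, u ≠ 1 → v ∈ centralizer ({u} : Set G) → v ≠ 1 →
      centralizer ({v} : Set G) ≤ centralizer ({u} : Set G) := by
    intro u v hu hv hv1 g hg
    rw [mem_centralizer_singleton_iff]
    exact c.centralizer_comm hE0 hv1 g hg u (mem_centralizer_singleton_iff.2 (mem_centralizer_singleton_iff.1 hv).symm)
  refine le_antisymm (key t a ht ha ha1) (key a t ha1 ?_ ht)
  rw [mem_centralizer_singleton_iff]; exact (mem_centralizer_singleton_iff.1 ha).symm

theorem false_of_CA : False := by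
  classical
  have := Fintype.ofFinite G
  have hsimple := c.simple
  by_cases hodd : Odd (Nat.card G)
  · have : Group.IsSolvable G := S0182.result hodd fun x hx => c.centralizer_comm hE0 hx
    obtain ⟨x, y, hxy⟩ := c.nonab
    exact hxy (IsSimpleGroup.comm_iff_isSolvable.2 this x y)
  have := Fact.mk Nat.prime_two
  have hp2 : ¬ p ∣ 2 := fun h => c.odd ((Nat.prime_dvd_prime_iff_eq hp.out Nat.prime_two).1 h)
  obtain ⟨t, ht⟩ := exists_prime_orderOf_dvd_card' (G := G) 2 (Nat.not_odd_iff_even.1 hodd |> even_iff_two_dvd.1)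
  have ht1 : t ≠ 1 := fun h => by rw [h, orderOf_one] at ht; omega
  set A := centralizer ({t} : Set G) with hA
  have htA : t ∈ A := mem_centralizer_singleton_iff.2 rfl
  have hAp : ¬ p ∣ Nat.card A := c.not_dvd_centralizer hE0 (by rw [ht]; exact hp2) ht1
  have hCA : ∀ a ∈ A, a ≠ 1 → centralizer ({a} : Set G) = A := fun a ha ha1 => c.centralizer_eq_of_mem hE0 ht1 ha ha1
  -- the Sylow `2`-subgroup
  obtain ⟨S, hS⟩ := (IsPGroup.of_card (n := 1) (G := zpowers t) (p := 2) (by rw [Nat.card_zpowers, ht, pow_one])).exists_le_sylow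
  have hSp : ¬ p ∣ Nat.card S := by
    obtain ⟨k, hk⟩ := S.2.exists_card_eq
    rw [hk]; exact fun h => hp2 (hp.out.dvd_of_dvd_pow h)
  have hSA : (S : Subgroup G) ≤ A := fun s hs =>
    mem_centralizer_singleton_iff.2 (c.ab _ hSp s hs t (hS (mem_zpowers t)))
  set H := normalizer (A : Set G) with hH
  have hNS : normalizer ((S : Subgroup G) : Set G) ≤ H := by
    intro g hg
    rw [hH, mem_normalizer_iff_map_conj_eq]
    refine eq_of_le_of_card_ge ?_ (card_map_of_injective (MulAut.conj g).injective).ge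
    rintro _ ⟨a, ha, rfl⟩
    have hgt : g⁻¹ * t * g ∈ (S : Subgroup G) := (mem_normalizer_iff''.1 hg t).1 (hS (mem_zpowers t))
    rw [hA, SetLike.mem_coe, mem_centralizer_singleton_iff] at ha
    rw [hA, mem_centralizer_singleton_iff]
    have h2 := c.centralizer_comm hE0 ht1 (g⁻¹ * t * g) (hSA hgt) a (mem_centralizer_singleton_iff.2 ha)
    show g * a * g⁻¹ * t = t * (g * a * g⁻¹)
    calc g * a * g⁻¹ * t = g * (a * (g⁻¹ * t * g)) * g⁻¹ := by group
      _ = g * ((g⁻¹ * t * g) * a) * g⁻¹ := by rw [h2]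
      _ = _ := by group
  have hAH : A ≤ H := le_normalizer
  have hAne : A ≠ ⊥ := fun h => ht1 (mem_bot.1 (h ▸ htA))
  have hAtop : A ≠ ⊤ := c.centralizer_ne_top ht1
  have hHtop : H ≠ ⊤ := c.normalizer_ne_top hAne hAtop
  have hHA : ¬ H ≤ A := by
    intro hle
    refine (H22.not_hasNormalPComplement_of_simple (p := 2) c.nonab (ht ▸ orderOf_dvd_natCard t))
      (H22.burnside_normal_complement S fun g hg => mem_centralizer_iff.2 fun s hs => ?_)
    exact c.centralizer_comm hE0 ht1 s (hSA hs) g (hle (hNS hg))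
  -- the `p'`-elements of `H` lie in `A`
  have hHp' : ∀ g ∈ H, ¬ p ∣ orderOf g → g ∈ A := by
    rcases c.loc H hHtop with h | h
    · obtain ⟨K, -, -, hK, hmem⟩ := exists_complement_of_npc h
      have htK : t ∈ K := hmem t (hAH htA) (by rw [ht]; exact hp2)
      intro g hg hgp
      exact mem_centralizer_singleton_iff.2 (c.ab K hK g (hmem g hg hgp) t htK)
    · obtain ⟨Q⟩ : Nonempty (Sylow p H) := inferInstance
      have hQn := h Q
      have hQ : Q.1 = ⊥ := by
        rw [eq_bot_iff_forall]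
        intro x hx
        by_contra hx1
        have htH : t ∈ H := hAH htA
        have hcomm : (x : G) * t = t * x := by
          have h1 : (x : G) * t * (x : G)⁻¹ * t⁻¹ ∈ A :=
            mul_mem ((mem_normalizer_iff.1 x.2 t).1 htA) (inv_mem htA)
          have h2 : x * ⟨t, htH⟩ * x⁻¹ * (⟨t, htH⟩ : H)⁻¹ ∈ Q.1 := by
            rw [mul_assoc, mul_assoc, ← mul_assoc (⟨t, htH⟩ : H)]
            exact mul_mem hx (hQn.conj_mem _ (inv_mem hx) _)
          have := eq_one_of_mem_of_coprime Q.2 h2 (by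
            rw [← Subgroup.orderOf_coe]; exact not_dvd_card_iff.1 hAp _ h1)
          have h3 : (x : G) * t * (x : G)⁻¹ * t⁻¹ = 1 := congrArg Subtype.val this
          rwa [mul_inv_eq_one, mul_inv_eq_iff_eq_mul] at h3
        apply hx1
        refine eq_one_of_mem_of_coprime Q.2 hx ?_
        rw [← Subgroup.orderOf_coe]
        exact not_dvd_card_iff.1 hAp _ (mem_centralizer_singleton_iff.2 hcomm)
      have hHp : ¬ p ∣ Nat.card H := fun hd => Q.ne_bot_of_dvd_card hd hQ
      intro g hg _
      exact mem_centralizer_singleton_iff.2 (c.ab H hHp g hg t (hAH htA))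
  -- a Sylow `p`-subgroup of `H`
  obtain ⟨C₀⟩ : Nonempty (Sylow p H) := inferInstance
  set C := C₀.1.map H.subtype with hC
  have hCH : C ≤ H := map_subtype_le _
  have hCp : IsPGroup p C := C₀.2.map _
  have hCne : p ∣ Nat.card C := by
    rw [hC, card_map_of_injective H.subtype_injective]
    refine C₀.dvd_card_of_dvd_card ?_
    by_contra hd
    exact hHA fun g hg => hHp' g hg (not_dvd_card_iff.1 hd g hg)
  -- involutions
  set I := (Finset.univ : Finset G).filter fun u => orderOf u = 2 with hI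
  set i := Nat.card {a : A // orderOf (a : G) = 2} with hi
  have hci : Nat.card C ∣ i := by
    let act : MulAction C {a : A // orderOf (a : G) = 2} :=
      { smul := fun u a => ⟨⟨(u : G) * (a.1 : G) * (u : G)⁻¹, (mem_normalizer_iff.1 (hCH u.2) _).1 a.1.2⟩,
          ((MulAut.conj (u : G)).orderOf_eq _).trans a.2⟩
        one_smul := fun a => Subtype.ext (Subtype.ext (show ((1 : C) : G) * (a.1 : G) * ((1 : C) : G)⁻¹ = a.1 by simp))
        mul_smul := fun u v a => Subtype.ext (Subtype.ext (show ((u * v : C) : G) * (a.1 : G) * ((u * v : C) : G)⁻¹ =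
          (u : G) * ((v : G) * (a.1 : G) * (v : G)⁻¹) * (u : G)⁻¹ by simp [mul_assoc])) }
    refine H77.card_dvd_of_free fun u a hua => ?_
    have h1 : (u : G) * (a.1 : G) * (u : G)⁻¹ = a.1 := congrArg (fun z => (z.1 : G)) hua
    have ha1 : (a.1 : G) ≠ 1 := fun h => by have := a.2; rw [h, orderOf_one] at this; omega
    have hu : (u : G) ∈ A := by
      rw [← hCA _ a.1.2 ha1, mem_centralizer_singleton_iff]; exact mul_inv_eq_iff_eq_mul.1 h1
    exact Subtype.ext (eq_one_of_mem_of_coprime hCp u.2 (not_dvd_card_iff.1 hAp _ hu))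
  -- every involution has `i` commuting involutions
  have hconjA : ∀ u ∈ I, ∃ g : G, centralizer ({u} : Set G) = A.map (MulAut.conj g).toMonoidHom := by
    intro u hu
    rw [hI, Finset.mem_filter] at hu
    obtain ⟨R, hR⟩ := (IsPGroup.of_card (n := 1) (G := zpowers u) (p := 2) (by rw [Nat.card_zpowers, hu.2, pow_one])).exists_le_sylow
    obtain ⟨g, rfl⟩ := MulAction.exists_smul_eq G S R
    have hu' : u ∈ (S : Subgroup G).map (MulAut.conj g).toMonoidHom := by
      have := hR (mem_zpowers u)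
      rwa [Sylow.coe_subgroup_smul] at this
    obtain ⟨s, hs, rfl⟩ := hu'
    refine ⟨g, ?_⟩
    have hs1 : s ≠ 1 := fun h => by
      have := hu.2; rw [h, map_one, orderOf_one] at this; omega
    rw [← hCA s (hSA hs) hs1]
    ext z
    rw [mem_centralizer_singleton_iff, mem_map]
    constructor
    · intro hz
      refine ⟨g⁻¹ * z * g, mem_centralizer_singleton_iff.2 ?_, by simp [mul_assoc]⟩
      have hz' : z * (g * s * g⁻¹) = g * s * g⁻¹ * z := hz
      calc g⁻¹ * z * g * s = g⁻¹ * (z * (g * s * g⁻¹)) * g := by group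
        _ = _ := by rw [hz']; group
    · rintro ⟨w, hw, rfl⟩
      show MulAut.conj g w * MulAut.conj g s = MulAut.conj g s * MulAut.conj g w
      rw [← map_mul, ← map_mul, mem_centralizer_singleton_iff.1 hw]
  have hfib : ∀ u ∈ I, (I.filter fun v => u * v = v * u).card = i := by
    intro u hu
    obtain ⟨g, hg⟩ := hconjA u hu
    rw [hi, Nat.card_eq_fintype_card, Fintype.card]
    refine (Finset.card_bij (fun a _ => MulAut.conj g (a.1 : G)) ?_ ?_ ?_).symm
    · intro a _
      rw [Finset.mem_filter, hI, Finset.mem_filter]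
      refine ⟨⟨Finset.mem_univ _, ((MulAut.conj g).orderOf_eq _).trans a.2⟩, ?_⟩
      exact (mem_centralizer_singleton_iff.1 (hg ▸ mem_map_of_mem _ a.1.2 : MulAut.conj g (a.1 : G) ∈ centralizer ({u} : Set G))).symm
    · intro a _ b _ h
      exact Subtype.ext (Subtype.ext ((MulAut.conj g).injective h))
    · intro v hv
      rw [Finset.mem_filter, hI, Finset.mem_filter] at hv
      have : v ∈ centralizer ({u} : Set G) := mem_centralizer_singleton_iff.2 hv.2.symm
      rw [hg] at this
      obtain ⟨a, ha, rfl⟩ := this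
      exact ⟨⟨⟨a, ha⟩, ((MulAut.conj g).orderOf_eq a).symm.trans hv.1.2⟩, Finset.mem_univ _, rfl⟩
  -- `|I| = [G : H] * i`
  set x := H.index with hx
  have hIcard : I.card = x * i := by
    let fI : (G ⧸ H) × {a : A // orderOf (a : G) = 2} → G := fun z => MulAut.conj z.1.out (z.2.1 : G)
    have hinj : Function.Injective fI := by
      rintro ⟨a, u⟩ ⟨b, v⟩ h
      have h' : MulAut.conj a.out (u.1 : G) = MulAut.conj b.out (v.1 : G) := h
      set k := (b.out)⁻¹ * a.out
      have hk : k * (u.1 : G) * k⁻¹ = v.1 := by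
        rw [MulAut.conj_apply, MulAut.conj_apply] at h'
        calc k * (u.1 : G) * k⁻¹ = (b.out)⁻¹ * (a.out * (u.1 : G) * (a.out)⁻¹) * b.out := by simp only [k]; group
          _ = _ := by rw [h']; group
      have hu1 : (u.1 : G) ≠ 1 := fun e => by have := u.2; rw [e, orderOf_one] at this; omega
      have hv1 : (v.1 : G) ≠ 1 := fun e => by have := v.2; rw [e, orderOf_one] at this; omega
      have hkH : k ∈ H := by
        rw [hH, mem_normalizer_iff_map_conj_eq]
        refine eq_of_le_of_card_ge ?_ (card_map_of_injective (MulAut.conj k).injective).ge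
        rintro _ ⟨z, hz, rfl⟩
        rw [← hCA _ v.1.2 hv1, mem_centralizer_singleton_iff, ← hk]
        show k * z * k⁻¹ * (k * (u.1 : G) * k⁻¹) = k * (u.1 : G) * k⁻¹ * (k * z * k⁻¹)
        have : z * (u.1 : G) = (u.1 : G) * z := c.centralizer_comm hE0 ht1 z hz _ u.1.2
        calc _ = k * (z * (u.1 : G)) * k⁻¹ := by group
          _ = _ := by rw [this]; group
      have hab : a = b := by
        rw [← QuotientGroup.out_eq' a, ← QuotientGroup.out_eq' b, eq_comm, QuotientGroup.eq]
        exact hkH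
      subst hab
      rw [Prod.mk.injEq]
      exact ⟨rfl, Subtype.ext (Subtype.ext ((MulAut.conj a.out).injective h'))⟩
    have himg : (Finset.univ.image fI) = I := by
      ext u
      simp only [Finset.mem_image, Finset.mem_univ, true_and]
      constructor
      · rintro ⟨z, rfl⟩
        exact Finset.mem_filter.2 ⟨Finset.mem_univ _, ((MulAut.conj _).orderOf_eq _).trans z.2.2⟩
      · intro hu
        obtain ⟨g, hg⟩ := hconjA u hu
        have : u ∈ A.map (MulAut.conj g).toMonoidHom := hg ▸ mem_centralizer_singleton_iff.2 rfl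
        obtain ⟨a, ha, rfl⟩ := this
        obtain ⟨h, hh⟩ := QuotientGroup.mk_out_eq_mul H g
        refine ⟨⟨(g : G ⧸ H), ⟨⟨(h : G)⁻¹ * a * h, (mem_normalizer_iff''.1 h.2 a).1 ha⟩, ?_⟩⟩, ?_⟩
        · show orderOf ((h : G)⁻¹ * a * h) = 2
          rw [show (h : G)⁻¹ * a * h = MulAut.conj (h : G)⁻¹ a by simp, MulEquiv.orderOf_eq]
          exact ((MulAut.conj g).orderOf_eq a).symm.trans (Finset.mem_filter.1 hu).2
        · simp only [fI, hh, MulAut.conj_apply, MulEquiv.coe_toMonoidHom]
          group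
    rw [← himg, Finset.card_image_of_injective _ hinj, Finset.card_univ, Fintype.card_prod,
      hx, index_eq_card, Nat.card_eq_fintype_card, hi, Nat.card_eq_fintype_card]
  -- a Sylow `p`-subgroup and the involutions inverting it
  have hinvol : ∀ P : Sylow p G, ∀ u₀ : G, orderOf u₀ = 2 → u₀ ∈ normalizer ((P : Subgroup G) : Set G) →
      ((I.filter fun u => u ∈ normalizer ((P : Subgroup G) : Set G)).card = Nat.card P) := by
    intro P u₀ hu₀ hu₀N
    have : IsCyclic (P : Subgroup G) := c.cyc P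
    have hu₀1 : u₀ ≠ 1 := fun h => by rw [h, orderOf_one] at hu₀; omega
    have hnotc : ∀ u : G, orderOf u = 2 → ¬ ∀ v ∈ (P : Subgroup G), u * v = v * u := fun u hu h => by
      have := hE0 P u (by rw [hu]; exact hp2) h
      rw [this, orderOf_one] at hu; omega
    have hinv := fun (u : G) (hu : orderOf u = 2) (huN : u ∈ normalizer ((P : Subgroup G) : Set G)) (v : G) (hv : v ∈ (P : Subgroup G)) =>
      inverts_of_involution c.odd P.2 hu huN (hnotc u hu) hv
    have hPne : ∃ w ∈ (P : Subgroup G), w ≠ 1 := by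
      by_contra h; push Not at h
      exact hnotc u₀ hu₀ fun v hv => by rw [h v hv]; simp
    obtain ⟨w, hw, hw1⟩ := hPne
    have hu₀i : u₀⁻¹ = u₀ := inv_eq_of_mul_eq_one_right (by rw [← sq, ← hu₀, pow_orderOf_eq_one])
    rw [Nat.card_eq_fintype_card, Fintype.card]
    refine (Finset.card_bij (fun (v : (P : Subgroup G)) _ => u₀ * (v : G)) ?_ ?_ ?_).symm
    · intro v _
      rw [Finset.mem_filter, hI, Finset.mem_filter]
      refine ⟨⟨Finset.mem_univ _, orderOf_eq_prime (p := 2) ?_ fun e => ?_⟩, mul_mem hu₀N (le_normalizer v.2)⟩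
      · have h1 := hinv u₀ hu₀ hu₀N v v.2
        rw [hu₀i] at h1
        rw [sq, show u₀ * (v : G) * (u₀ * (v : G)) = u₀ * (v : G) * u₀ * (v : G) by simp [mul_assoc], h1, inv_mul_cancel]
      · have : u₀ ∈ (P : Subgroup G) := eq_inv_of_mul_eq_one_left e ▸ inv_mem v.2
        exact hu₀1 (eq_one_of_mem_of_coprime P.2 this (by rw [hu₀]; exact hp2))
    · intro a _ b _ h; exact Subtype.ext (mul_left_cancel h)
    · intro u hu
      rw [Finset.mem_filter, hI, Finset.mem_filter] at hu
      refine ⟨⟨u₀ * u, ?_⟩, Finset.mem_univ _, ?_⟩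
      · rw [← c.centralizer_sylow_elem hE0 P hw hw1, mem_centralizer_singleton_iff]
        have h1 := hinv u hu.1.2 hu.2 w hw
        have h2 := hinv u₀ hu₀ hu₀N w hw
        rw [mul_inv_eq_iff_eq_mul] at h1
        rw [mul_inv_eq_iff_eq_mul] at h2
        have h2' : u₀ * w⁻¹ = w * u₀ := by
          rw [mul_inv_eq_iff_eq_mul, mul_assoc, h2, mul_inv_cancel_left]
        rw [mul_assoc, h1, ← mul_assoc, h2', mul_assoc]
      · show u₀ * (u₀ * u) = u
        rw [← mul_assoc, ← sq, ← hu₀, pow_orderOf_eq_one, one_mul]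
  -- the noncommuting pairs
  set T := (I ×ˢ I).filter fun z => ¬ z.1 * z.2 = z.2 * z.1 with hT
  have hTcard : T.card + I.card * i = I.card * I.card := by
    rw [← Finset.card_product, ← Finset.card_filter_add_card_filter_not (s := I ×ˢ I) (fun z => z.1 * z.2 = z.2 * z.1), hT, add_comm]
    congr 1
    have : ((I ×ˢ I).filter fun z => z.1 * z.2 = z.2 * z.1).card = I.card * i := by
      rw [Finset.card_filter, Finset.sum_product, ← smul_eq_mul, ← Finset.sum_const]
      exact Finset.sum_congr rfl fun u hu => by rw [← hfib u hu, Finset.card_filter]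
    exact this.symm
  -- they come from the Sylow subgroups
  have hkey : ∀ z ∈ T, ∃ P : Sylow p G, z.1 * z.2 ∈ (P : Subgroup G) ∧ z.1 * z.2 ≠ 1 ∧ z.1 ∈ normalizer ((P : Subgroup G) : Set G) := by
    rintro ⟨u, v⟩ hz
    rw [hT, Finset.mem_filter, Finset.mem_product, hI, Finset.mem_filter, Finset.mem_filter] at hz
    obtain ⟨⟨⟨-, hu⟩, ⟨-, hv⟩⟩, hnc⟩ := hz
    simp only at hnc ⊢
    have hui : u⁻¹ = u := inv_eq_of_mul_eq_one_right (by rw [← sq, ← hu, pow_orderOf_eq_one])
    have hvi : v⁻¹ = v := inv_eq_of_mul_eq_one_right (by rw [← sq, ← hv, pow_orderOf_eq_one])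
    have hw1 : u * v ≠ 1 := fun h => hnc (by rw [eq_inv_of_mul_eq_one_left h, hvi])
    have huw : u * (u * v) * u⁻¹ = (u * v)⁻¹ := by
      rw [mul_inv_rev, hui, hvi, ← mul_assoc u u v, ← sq u, ← hu, pow_orderOf_eq_one, one_mul]
    have hnorm : u ∈ normalizer ((centralizer ({u * v} : Set G) : Subgroup G) : Set G) := by
      rw [mem_normalizer_iff_map_conj_eq]
      refine eq_of_le_of_card_ge ?_ (card_map_of_injective (MulAut.conj u).injective).ge
      rintro _ ⟨y, hy, rfl⟩
      rw [mem_centralizer_singleton_iff]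
      have h1 : Commute (MulAut.conj u y) (MulAut.conj u (u * v)) :=
        (show Commute y (u * v) from mem_centralizer_singleton_iff.1 hy).map (MulAut.conj u)
      have h2 : MulAut.conj u (u * v) = (u * v)⁻¹ := huw
      rw [h2] at h1
      exact (by simpa using h1.inv_right : Commute (MulAut.conj u y) (u * v)).eq
    by_cases hd : p ∣ orderOf (u * v)
    · obtain ⟨P, hP, hC⟩ := c.exists_sylow_of_dvd hE0 hd
      exact ⟨P, hP, hw1, hC ▸ hnorm⟩
    · exfalso
      apply hnc
      set B := centralizer ({u * v} : Set G)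
      have hB : ¬ p ∣ Nat.card B := c.not_dvd_centralizer hE0 hd hw1
      have hBu : ¬ p ∣ Nat.card (B ⊔ zpowers u : Subgroup G) := by
        intro h
        haveI : (B.subgroupOf (B ⊔ zpowers u)).Normal := by
          rw [normal_subgroupOf_iff_le_normalizer le_sup_left]
          exact sup_le le_normalizer (zpowers_le.2 hnorm)
        have h1 := H19.card_sup_dvd (B.subgroupOf (B ⊔ zpowers u)) ((zpowers u).subgroupOf (B ⊔ zpowers u))
        have htop : B.subgroupOf (B ⊔ zpowers u) ⊔ (zpowers u).subgroupOf (B ⊔ zpowers u) = ⊤ := by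
          rw [← subgroupOf_sup le_sup_left le_sup_right, subgroupOf_self]
        rw [htop, card_top, Nat.card_congr (subgroupOfEquivOfLe le_sup_left).toEquiv,
          Nat.card_congr (subgroupOfEquivOfLe le_sup_right).toEquiv, Nat.card_zpowers, hu] at h1
        rcases hp.out.dvd_mul.1 (h.trans h1) with h | h
        · exact hB h
        · exact hp2 h
      have := c.ab _ hBu u (mem_sup_right (mem_zpowers u)) (u * v) (mem_sup_left (mem_centralizer_singleton_iff.2 rfl))
      rw [← mul_assoc, ← sq, ← hu, pow_orderOf_eq_one, one_mul] at this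
      calc u * v = u * (u * v * u) := by rw [← this]
        _ = v * u := by rw [← mul_assoc, ← mul_assoc, ← sq u, ← hu, pow_orderOf_eq_one, one_mul]
  obtain ⟨P⟩ : Nonempty (Sylow p G) := inferInstance
  have hTsum : T.card = ∑ Q : Sylow p G, (I.filter fun u => u ∈ normalizer ((Q : Subgroup G) : Set G)).card * (Nat.card Q - 1) := by
    have hc : ∀ Q : Sylow p G, ((I.filter fun u => u ∈ normalizer ((Q : Subgroup G) : Set G)) ×ˢ
        (Finset.univ.filter fun w : G => w ∈ (Q : Subgroup G) ∧ w ≠ 1)).card =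
        (I.filter fun u => u ∈ normalizer ((Q : Subgroup G) : Set G)).card * (Nat.card Q - 1) := by
      intro Q
      rw [Finset.card_product]; congr 1
      rw [Nat.card_eq_fintype_card, Fintype.card_subtype, ← Finset.card_erase_of_mem (show (1 : G) ∈ _ by simp)]
      congr 1; ext w; simp [and_comm]
    rw [← Finset.sum_congr rfl (fun Q _ => hc Q), ← Finset.card_sigma]
    choose f hf1 hf2 hf3 using hkey
    refine Finset.card_bij' (fun z hz => ⟨f z hz, (z.1, z.1 * z.2)⟩) (fun z _ => (z.2.1, z.2.1 * z.2.2)) ?_ ?_ ?_ ?_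
    · intro z hz
      rw [Finset.mem_sigma, Finset.mem_product, Finset.mem_filter, Finset.mem_filter]
      have hz' := (Finset.mem_filter.1 hz).1
      rw [Finset.mem_product] at hz'
      exact ⟨Finset.mem_univ _, ⟨Finset.mem_filter.1 hz'.1, hf3 z hz⟩, Finset.mem_filter.2 ⟨Finset.mem_univ _, hf1 z hz, hf2 z hz⟩⟩
    · rintro ⟨Q, u, w⟩ hz
      rw [Finset.mem_sigma, Finset.mem_product, Finset.mem_filter, Finset.mem_filter, Finset.mem_filter] at hz
      obtain ⟨-, ⟨⟨-, hu⟩, huN⟩, -, hwQ, hw1⟩ := hz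
      have : IsCyclic (Q : Subgroup G) := c.cyc Q
      have hne : ¬ ∀ v ∈ (Q : Subgroup G), u * v = v * u := fun h => by
        have := hE0 Q u (by rw [hu]; exact hp2) h
        rw [this, orderOf_one] at hu; omega
      have h1 := inverts_of_involution c.odd Q.2 hu huN hne hwQ
      have hui : u⁻¹ = u := inv_eq_of_mul_eq_one_right (by rw [← sq, ← hu, pow_orderOf_eq_one])
      rw [hui] at h1
      have hu1 : u ≠ 1 := fun e => by rw [e, orderOf_one] at hu; omega
      have hwp : p ∣ orderOf w := by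
        by_contra hd
        exact hw1 (eq_one_of_mem_of_coprime Q.2 hwQ hd)
      rw [hT, Finset.mem_filter, Finset.mem_product, hI, Finset.mem_filter, Finset.mem_filter]
      refine ⟨⟨⟨Finset.mem_univ _, hu⟩, Finset.mem_univ _, orderOf_eq_prime (p := 2) ?_ fun e => ?_⟩, fun e => ?_⟩
      · rw [sq, ← mul_assoc, h1, inv_mul_cancel]
      · have : u ∈ (Q : Subgroup G) := (show u = w⁻¹ from eq_inv_of_mul_eq_one_left e) ▸ inv_mem hwQ
        exact hu1 (eq_one_of_mem_of_coprime Q.2 this (by rw [hu]; exact hp2))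
      · simp only at e
        rw [← mul_assoc, ← sq u, ← hu, pow_orderOf_eq_one, one_mul, h1] at e
        have hw2 : w ^ 2 = 1 := by rw [sq]; exact mul_eq_one_iff_eq_inv.2 e
        exact hp2 (hwp.trans (orderOf_dvd_of_pow_eq_one hw2))
    · intro z hz
      have hz' := (Finset.mem_filter.1 hz).1
      rw [Finset.mem_product, hI, Finset.mem_filter, Finset.mem_filter] at hz'
      refine Prod.ext rfl ?_
      show z.1 * (z.1 * z.2) = z.2
      rw [← mul_assoc, ← sq, ← hz'.1.2, pow_orderOf_eq_one, one_mul]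
    · rintro ⟨Q, u, w⟩ hz
      rw [Finset.mem_sigma, Finset.mem_product, Finset.mem_filter, Finset.mem_filter, Finset.mem_filter] at hz
      obtain ⟨-, ⟨⟨-, hu⟩, -⟩, -, hwQ, hw1⟩ := hz
      have hmul : u * (u * w) = w := by rw [← mul_assoc, ← sq, ← hu, pow_orderOf_eq_one, one_mul]
      simp only [hmul]
      congr 1
      apply Sylow.ext
      have key : ∀ hh, ((f (u, u * w) hh : Sylow p G) : Subgroup G) = Q := fun hh => by
        have hmem := hf1 (u, u * w) hh
        simp only [hmul] at hmem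
        rw [← c.centralizer_sylow_elem hE0 _ hmem hw1, c.centralizer_sylow_elem hE0 Q hwQ hw1]
      exact key _
  have hall : ∀ Q : Sylow p G, (I.filter fun u => u ∈ normalizer ((Q : Subgroup G) : Set G)).card =
      (I.filter fun u => u ∈ normalizer ((P : Subgroup G) : Set G)).card := by
    intro Q
    obtain ⟨g, rfl⟩ := MulAction.exists_smul_eq G P Q
    have hiff : ∀ u : G, MulAut.conj g u ∈ normalizer (((g • P : Sylow p G) : Subgroup G) : Set G) ↔
        u ∈ normalizer ((P : Subgroup G) : Set G) := by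
      intro u
      rw [Sylow.coe_subgroup_smul]
      show _ ∈ normalizer (((P : Subgroup G).map (MulAut.conj g).toMonoidHom : Subgroup G) : Set G) ↔ _
      rw [← map_equiv_normalizer_eq]
      exact mem_map_equiv.trans (by simp [mul_assoc])
    refine (Finset.card_bij (fun u _ => MulAut.conj g u) ?_ (fun a _ b _ h => (MulAut.conj g).injective h) ?_).symm
    · intro u hu
      rw [Finset.mem_filter, hI, Finset.mem_filter] at hu ⊢
      exact ⟨⟨Finset.mem_univ _, ((MulAut.conj g).orderOf_eq u).trans hu.1.2⟩, (hiff u).2 hu.2⟩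
    · intro v hv
      rw [Finset.mem_filter, hI, Finset.mem_filter] at hv
      refine ⟨(MulAut.conj g).symm v, ?_, (MulAut.conj g).apply_symm_apply v⟩
      rw [Finset.mem_filter, hI, Finset.mem_filter]
      exact ⟨⟨Finset.mem_univ _, ((MulAut.conj g).symm.orderOf_eq v).trans hv.1.2⟩,
        (hiff _).1 (by rw [(MulAut.conj g).apply_symm_apply]; exact hv.2)⟩
  rw [Finset.sum_congr rfl (fun Q _ => show _ = (I.filter fun u => u ∈ normalizer ((P : Subgroup G) : Set G)).card * (Nat.card P - 1) by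
    rw [hall Q, Q.card_eq_multiplicity, P.card_eq_multiplicity]), Finset.sum_const, Finset.card_univ, smul_eq_mul,
    ← Nat.card_eq_fintype_card, P.card_eq_index_normalizer] at hTsum
  have hipos : 0 < i := by
    rw [hi]; exact Nat.card_pos_iff.2 ⟨⟨⟨⟨t, htA⟩, ht⟩⟩, inferInstance⟩
  have hx2 : 2 ≤ x := by
    have h0 : x ≠ 0 := H.index_ne_zero_of_finite
    have h1 : x ≠ 1 := fun h => hHtop (index_eq_one.1 h)
    omega
  rw [hIcard, hTsum] at hTcard
  set j := (I.filter fun u => u ∈ normalizer ((P : Subgroup G) : Set G)).card with hj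
  have hj' : j = Nat.card P := by
    rcases eq_or_ne j 0 with h0 | h0
    · exfalso
      rw [h0, zero_mul, mul_zero, zero_add] at hTcard
      have h1 : i * (x * i) = x * i * (x * i) := by rw [← hTcard]; ring
      have h2 := Nat.eq_of_mul_eq_mul_right (Nat.mul_pos (by omega) hipos) h1
      nlinarith
    · obtain ⟨u, hu⟩ := Finset.card_ne_zero.1 h0
      rw [Finset.mem_filter, hI, Finset.mem_filter] at hu
      exact hinvol P u hu.1.2 hu.2
  rw [hj'] at hTcard
  set s := (normalizer ((P : Subgroup G) : Set G)).index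
  obtain ⟨e, he⟩ := (P : Subgroup G).card_dvd_of_le (le_normalizer (H := (P : Subgroup G)))
  have hG1 : e * Nat.card P * s = Nat.card G := by
    rw [mul_comm e, ← he]; exact (normalizer ((P : Subgroup G) : Set G)).card_mul_index
  have hG2 : Nat.card H * x = Nat.card G := H.card_mul_index
  -- `|H| = |A| * |C|`
  have hAsub : Nat.card H = Nat.card A * Nat.card C := by
    have h1 : Nat.card C = p ^ (Nat.card H).factorization p := by
      rw [hC, card_map_of_injective H.subtype_injective, C₀.card_eq_multiplicity]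
    have h2 := (A.subgroupOf H).card_mul_index
    rw [Nat.card_congr (subgroupOfEquivOfLe hAH).toEquiv] at h2
    haveI : (A.subgroupOf H).Normal := normal_in_normalizer
    have h3 : IsPGroup p (H ⧸ A.subgroupOf H) := by
      intro z
      obtain ⟨g, rfl⟩ := QuotientGroup.mk'_surjective _ z
      obtain ⟨a, b, hgab, hcab, ⟨k, hk⟩, hb, -, hbz⟩ := split (p := p) (g : G)
      refine ⟨k, ?_⟩
      rw [← map_pow, QuotientGroup.mk'_apply, QuotientGroup.eq_one_iff, mem_subgroupOf, Subgroup.coe_pow, hgab,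
        hcab.mul_pow, hk, one_mul]
      exact pow_mem (hHp' b (zpowers_le.2 g.2 hbz) hb) _
    obtain ⟨k, hk⟩ := h3.exists_card_eq
    rw [← index_eq_card] at hk
    rw [hk] at h2
    rw [h1, ← h2]
    congr 2
    rw [Nat.factorization_mul Nat.card_pos.ne' (pow_ne_zero _ hp.out.ne_zero)]
    rw [Finsupp.add_apply, Nat.factorization_eq_zero_of_not_dvd hAp, zero_add, hp.out.factorization_pow, Finsupp.single_eq_same]
  obtain ⟨i', hi'⟩ := hci
  obtain ⟨a, ha⟩ := P.2.exists_card_eq
  have ha0 : a ≠ 0 := fun h => by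
    rw [h, pow_zero] at ha
    exact P.ne_bot_of_dvd_card c.dvd (eq_bot_of_card_eq _ ha)
  obtain ⟨w, hw⟩ : ∃ w, Nat.card P = w + 1 := ⟨Nat.card P - 1, by have := Nat.card_pos (α := (P : Subgroup G)); omega⟩
  obtain ⟨x', hx'⟩ : ∃ x', x = x' + 1 := ⟨x - 1, by omega⟩
  -- the final identity
  have hfin : e * x' * Nat.card C * i' * i' = Nat.card A * w := by
    have h0 : 0 < x * Nat.card C := Nat.mul_pos (by omega) Nat.card_pos
    refine Nat.eq_of_mul_eq_mul_right h0 ?_
    have h5 : s * (Nat.card P * w) + x * i * i = x * i * (x * i) := by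
      rw [← hTcard, hw, Nat.add_sub_cancel]
      rfl
    have h6 : x * x' * i * i + x * i * i = x * i * (x * i) := by rw [hx']; ring
    have h7 : x * x' * i * i = s * (Nat.card P * w) := by linarith
    calc e * x' * Nat.card C * i' * i' * (x * Nat.card C) = e * (x * x' * i * i) := by rw [hi']; ring
      _ = Nat.card G * w := by rw [h7, ← hG1]; ring
      _ = Nat.card A * w * (x * Nat.card C) := by rw [← hG2, hAsub]; ring
  have hdiv : p ∣ Nat.card A * w := hfin ▸ dvd_mul_of_dvd_left (dvd_mul_of_dvd_left (dvd_mul_of_dvd_right hCne _) _) _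
  rcases hp.out.dvd_mul.1 hdiv with h | h
  · exact hAp h
  · have h2 : p ∣ w + 1 := hw ▸ ha ▸ dvd_pow_self p ha0
    exact hp.out.ne_one (Nat.dvd_one.1 ((Nat.dvd_add_right h).1 h2))

end CA

end Cfg

end Cfsg.Agent.H86.PPrime
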